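import Mathlib
import Cfsg.Agent.Lyons.Tools
import Cfsg.Prelude.Def_TwoFusion

/-! A strongly closed cyclic subgroup and an element which is isolated modulo it. -/

set_option autoImplicit false

namespace Cfsg.Agent.P4T

open Subgroup Cfsg Cfsg.Agent.PLocal.Amb Cfsg.Agent.Lyons
open scoped commutatorElement

universe u

theorem tw_mem {D E : Type*} [Group D] [Group E] {f : D →* E} {S : Subgroup D} (h : f.ker ≤ S)
    {x : D} : f x ∈ S.map f ↔ x ∈ S := by
  rw [← mem_comap, comap_map_eq_self h]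

theorem tw_odd {D : Type*} [Group D] [Finite D] : Odd (Nat.card (oddCore D)) := oc_top (G := D) ▸ odd_oc ⊤

theorem tw_core {D : Type*} [Group D] [Finite D] {K : Subgroup D} [K.Normal] : oc K ≤ oddCore D :=
  oc_top (G := D) ▸ le_oc le_top
    (le_trans (by rw [normalizer_eq_top]) (norm_le_norm_oc K)) (odd_oc K)

theorem tower_aux (n : ℕ) : ∀ {D : Type u} [Group D] [Finite D], oddCore D = ⊥ →
    ∀ {S W : Subgroup D}, IsSyl 2 S ⊤ → IsCyclic W → IsStronglyClosed W S → ∀ {t : D}, t ∈ S →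
    (∀ g, g * t * g⁻¹ ∈ S → g * t * g⁻¹ * t⁻¹ ∈ W) → Nat.card W = n →
    W.Normal ∧ ∀ g, g * t * g⁻¹ * t⁻¹ ∈ W := by
  induction n using Nat.strong_induction_on with
  | _ n ih =>
  intro D _ _ hO S W hS hW sc t ht h hn
  have zs : ∀ z ∈ S, (∀ g, g * z * g⁻¹ ∈ S → g * z * g⁻¹ = z) → ∀ g, Commute z g := fun z hz hi g => by
    obtain ⟨o, ho, c, hc, rfl⟩ := zstar hS hz (fun g _ => hi g) (mem_top g)
    rw [oc_top, hO, mem_bot] at ho
    rw [ho, one_mul]; exact mem_cent.1 hc.2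
  by_cases h1 : W = ⊥
  · subst h1
    refine ⟨inferInstance, fun g => ?_⟩
    rw [conj_eq_of_comm (zs t ht (fun g hg => mul_inv_eq_one.1 (h g hg)) g), mul_inv_cancel]
    exact one_mem _
  have hp : IsPGroup 2 W := hS.pgrp.to_le sc.1
  obtain ⟨w, hw⟩ := exists_prime_orderOf_dvd_card' (G := W) 2 (by
    obtain ⟨k, hk, e⟩ := hp.nontrivial_iff_card.1 ((nontrivial_iff_ne_bot W).2 h1)
    rw [e]; exact dvd_pow_self 2 hk.ne')
  have hw' : orderOf (w : D) = 2 := by rw [orderOf_coe, hw]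
  have hc := zs w (sc.1 w.2) fun g hg => by
    have e : orderOf (⟨_, sc.2 w w.2 g hg⟩ : W) = 2 := by rw [← orderOf_coe, orderOf_conj', hw']
    classical
    have := Fintype.ofFinite W
    have k := IsCyclic.card_orderOf_eq_totient (α := W) (d := 2) (hw ▸ orderOf_dvd_card)
    exact congrArg Subtype.val (Finset.card_le_one.1 k.le _
      (Finset.mem_filter.2 ⟨Finset.mem_univ _, e⟩) _ (Finset.mem_filter.2 ⟨Finset.mem_univ _, hw⟩))
  haveI : (zpowers (w : D)).Normal := ⟨fun x hx g => by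
    rw [conj_eq_of_comm (show Commute x g by obtain ⟨k, rfl⟩ := hx; exact (hc g).zpow_left k)]
    exact hx⟩
  let f := QuotientGroup.mk' (zpowers (w : D))
  have hf : Function.Surjective f := QuotientGroup.mk'_surjective _
  have k1 : f.ker ≤ W := by rw [QuotientGroup.ker_mk']; exact zpowers_le.2 w.2
  have k2 : f.ker ≤ S := k1.trans sc.1
  have hO' : oddCore (D ⧸ zpowers (w : D)) = ⊥ := by
    refine (eq_bot_iff_forall _).2 fun y hy => ?_
    obtain ⟨y, rfl⟩ := hf y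
    have hT : IsSyl 2 f.ker ((oddCore _).comap f) := ⟨fun x hx => by
      rw [mem_comap, hx]; exact one_mem _, hS.pgrp.to_le k2, fun R hR _ h2 r hr =>
      eq_one_of_odd (hR.map f) (mem_map_of_mem f hr) (odd_orderOf tw_odd (h2 hr))⟩
    obtain ⟨o, ho, z, hz, rfl⟩ := burn hT (fun x _ z hz => by
      rw [QuotientGroup.ker_mk'] at hz
      obtain ⟨k, rfl⟩ := hz
      exact (hc x).zpow_left k) hy
    rw [mem_bot.1 (hO.le (tw_core ho)), one_mul]; exact hz
  have hS' : IsSyl 2 (S.map f) ⊤ := map_top_of_surjective f hf ▸ hS.map f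
  obtain ⟨r1, r2⟩ := ih (Nat.card (W.map f)) (by
      have : Nat.card (W.map f) * _ = _ :=
        Grp.card_map_mk'_mul_of_le (zpowers (w : D)) (zpowers_le.2 w.2)
      rw [Nat.card_zpowers, hw', hn] at this
      have := Nat.card_pos (α := W.map f)
      omega) hO' hS' (isCyclic_of_surjective _ (f.subgroupMap_surjective W))
    ⟨map_mono sc.1, by
      rintro _ ⟨x, hx, rfl⟩ g hg
      obtain ⟨g, rfl⟩ := hf g
      rw [← map_inv, ← map_mul, ← map_mul] at hg ⊢
      exact mem_map_of_mem f (sc.2 x hx g ((tw_mem k2).1 hg))⟩ (mem_map_of_mem f ht) (fun g hg => by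
      obtain ⟨g, rfl⟩ := hf g
      rw [← map_inv, ← map_mul, ← map_mul] at hg
      simpa using mem_map_of_mem f (h g ((tw_mem k2).1 hg))) rfl
  exact ⟨comap_map_eq_self k1 ▸ r1.comap f, fun g => (tw_mem k1).1 (by simpa using r2 (f g))⟩

/-- Induction on `|W|`. -/
theorem tower {D : Type u} [Group D] [Finite D] (hO : oddCore D = ⊥) {S W : Subgroup D}
    (hS : IsSyl 2 S ⊤) (hW : IsCyclic W) (sc : IsStronglyClosed W S) {t : D} (ht : t ∈ S)
    (h : ∀ g, g * t * g⁻¹ ∈ S → g * t * g⁻¹ * t⁻¹ ∈ W) :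
    W.Normal ∧ ∀ g, g * t * g⁻¹ * t⁻¹ ∈ W :=
  tower_aux _ hO hS hW sc ht h rfl

theorem tw_lift {D : Type*} [Group D] [Finite D] {O P : Subgroup D} [O.Normal]
    (hO : Odd (Nat.card O)) (hP : IsPGroup 2 P) {y : D} (h2 : ∃ k : ℕ, y ^ 2 ^ k = 1)
    (h : QuotientGroup.mk' O y ∈ P.map (QuotientGroup.mk' O)) : ∃ o ∈ O, o * y * o⁻¹ ∈ P := by
  have hn : P ≤ 𝐍[O] := by rw [normalizer_eq_top]; exact le_top
  have hs : IsSyl 2 P (P ⊔ O) := isSyl_of_not_dvd_relIndex hP le_sup_left fun k => by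
    have c1 := Grp.card_sup_mul_card_inf P O
    rw [← Grp.card_mul_relIndex (le_sup_left : P ≤ P ⊔ O), mul_assoc] at c1
    exact hO.not_two_dvd_nat (Nat.eq_of_mul_eq_mul_left Nat.card_pos c1 ▸ k.mul_right _)
  rw [← mem_comap, comap_map_eq, QuotientGroup.ker_mk'] at h
  obtain ⟨c, hc, k⟩ := hs.exists_cj_le (isPGroup_zpowers h2) (zpowers_le.2 h)
  obtain ⟨s, hs', o, ho, rfl⟩ := (mem_sup_of_le_normalizer_right hn).1 hc
  refine ⟨o, ho, ?_⟩
  have := mul_mem (mul_mem (inv_mem hs') (k (conj_mem_cj _ (mem_zpowers y)))) hs'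
  simpa [mul_assoc] using this

theorem tw_cent {D : Type*} [Group D] [Finite D] {W : Subgroup D} [W.Normal] (hW : IsCyclic W)
    (hp : IsPGroup 2 W) {x : D} (hx : Odd (orderOf x)) : x ∈ 𝐂[W] := by
  obtain ⟨k, hk⟩ := IsPGroup.iff_card.1 hp
  have h1 : orderOf (MulAut.conjNormal (H := W) x) ∣ 2 ^ k := by
    refine (_root_.orderOf_dvd_natCard _).trans ?_
    rw [IsCyclic.card_mulAut, hk]
    rcases k with _ | k
    · simp
    · rw [Nat.totient_prime_pow_succ Nat.prime_two]; simp [pow_succ]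
  have h2 : MulAut.conjNormal (H := W) x = 1 := orderOf_eq_one_iff.1 (Nat.eq_one_of_dvd_coprimes
    ((Nat.coprime_two_left.2 hx).pow_left k) h1 (orderOf_map_dvd _ x))
  intro w hw
  exact (mul_inv_eq_iff_eq_mul.1 (congrArg (fun a : MulAut W => (a ⟨w, hw⟩ : D)) h2)).symm

/-- Apply `tower` in `D / O(D)`. -/
theorem tower_amb {G : Type u} [Group G] [Finite G] {D S W : Subgroup G} (hS : IsSyl 2 S D)
    (hle : W ≤ S) (hW : IsCyclic W) (sc : ∀ w ∈ W, ∀ g ∈ D, g * w * g⁻¹ ∈ S → g * w * g⁻¹ ∈ W)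
    {t : G} (ht : t ∈ S) (h : ∀ g ∈ D, g * t * g⁻¹ ∈ S → g * t * g⁻¹ * t⁻¹ ∈ W) :
    (∀ g ∈ D, ∃ o ∈ oc D, o * g * t * (o * g)⁻¹ ∈ S) ∧
    (∀ X ≤ D, Odd (Nat.card X) → t ∈ 𝐍[X] → ⁅X, zpowers t⁆ ≤ oc D) ∧
    ∀ X ≤ D ⊓ 𝐳[t], Odd (Nat.card X) → D ⊓ 𝐳[t] ≤ 𝐍[X] → X ≤ oc D := by
  let f := QuotientGroup.mk' (oddCore D)
  have hf : Function.Surjective f := QuotientGroup.mk'_surjective _
  have hP : IsPGroup 2 (S.subgroupOf D) := isPGroup_subgroupOf hS.pgrp D
  have hS' : IsSyl 2 ((S.subgroupOf D).map f) ⊤ := by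
    obtain ⟨P, e⟩ := hS.exists_sylow
    exact map_top_of_surjective f hf ▸ e ▸ (isSyl_top P).map f
  have lift : ∀ {P : Subgroup D}, IsPGroup 2 P → ∀ x ∈ S.subgroupOf D, ∀ g : D,
      f g * f x * (f g)⁻¹ ∈ P.map f → ∃ o ∈ oddCore D, o * g * x * (o * g)⁻¹ ∈ P := by
    intro P hP' x hx g hg
    rw [← map_inv, ← map_mul, ← map_mul] at hg
    obtain ⟨o, ho, k⟩ := tw_lift tw_odd hP' (by
      obtain ⟨k, hk⟩ := isPGroup_iff.1 hP x hx
      exact ⟨k, by rw [conj_pow, hk]; simp⟩) hg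
    exact ⟨o, ho, by simpa [mul_assoc] using k⟩
  have fo : ∀ o ∈ oddCore D, ∀ g : D, f (o * g) = f g := fun o ho g => by
    rw [map_mul, show f o = 1 from (QuotientGroup.eq_one_iff o).2 ho, one_mul]
  let τ : D := ⟨t, hS.le ht⟩
  have hW' : IsCyclic ((W.subgroupOf D).map f) :=
    have := isCyclic_of_surjective _ (subgroupOfEquivOfLe (hle.trans hS.le)).symm.surjective
    isCyclic_of_surjective _ (f.subgroupMap_surjective _)
  have hWp : IsPGroup 2 ((W.subgroupOf D).map f) := hS'.pgrp.to_le (map_mono (comap_mono hle))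
  obtain ⟨r1, r2⟩ := tower (t := f τ) (Grp.pPrimeCore_quotient_pPrimeCore 2 D) hS' hW'
    ⟨map_mono (comap_mono hle), by
      rintro _ ⟨x, hx, rfl⟩ g hg
      obtain ⟨g, rfl⟩ := hf g
      obtain ⟨o, ho, k⟩ := lift hP x (hle hx) g hg
      rw [← fo o ho g, ← map_inv, ← map_mul, ← map_mul]
      exact mem_map_of_mem f (sc x hx _ (o * g).2 k)⟩ (mem_map_of_mem f ht) fun g hg => by
      obtain ⟨g, rfl⟩ := hf g
      obtain ⟨o, ho, k⟩ := lift hP τ ht g hg
      rw [← fo o ho g, ← map_inv, ← map_inv, ← map_mul, ← map_mul, ← map_mul]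
      exact mem_map_of_mem f (h _ (o * g).2 k)
  have mo : ∀ {x : D}, f x = 1 → (x : G) ∈ oc D := fun hx =>
    mem_map_of_mem D.subtype ((QuotientGroup.eq_one_iff _).1 hx)
  have od : ∀ {X : Subgroup G}, Odd (Nat.card X) → ∀ x : D, (x : G) ∈ X → Odd (orderOf (f x)) :=
    fun hX x hx => (odd_orderOf hX hx).of_dvd_nat (orderOf_coe x ▸ orderOf_map_dvd f x)
  refine ⟨fun g hg => ?_, fun X hX ho hn => commutator_le.2 ?_, fun X hX ho hn x hx => ?_⟩
  · obtain ⟨o, ho, k⟩ := lift hP τ ht ⟨g, hg⟩ (by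
      have := mul_mem (map_mono (comap_mono hle) (r2 (f ⟨g, hg⟩))) (mem_map_of_mem f (show τ ∈ _ from ht))
      rwa [inv_mul_cancel_right] at this)
    exact ⟨o, mem_map_of_mem D.subtype ho, k⟩
  · rintro x hx _ ⟨k, rfl⟩
    have h1 := eq_one_of_odd hWp (r2 (f ⟨x, hX hx⟩)) (by
      rw [← map_inv, ← map_inv, ← map_mul, ← map_mul, ← map_mul]
      refine od ho _ ?_
      simpa [mul_assoc] using mul_mem hx (conj_mem_of_mem_normalizer hn (inv_mem hx)))
    have h2 : Commute (f ⟨x, hX hx⟩) (f τ) := commutatorElement_eq_one_iff_commute.1 h1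
    refine mo (x := ⁅(⟨x, hX hx⟩ : D), τ ^ k⁆) ?_
    rw [map_commutatorElement, map_zpow]
    exact commutatorElement_eq_one_iff_commute.2 (h2.zpow_right k)
  · haveI : ((W.subgroupOf D).map f ⊔ zpowers (f τ)).Normal := by
      refine normalizer_eq_top_iff.1 (eq_top_iff.2 fun g _ => mem_normalizer_of_cj_le ?_)
      rw [cj_sup, cj_of_normal]
      refine sup_le le_sup_left ?_
      rw [MonoidHom.map_zpowers, zpowers_le]
      have := mul_mem (mem_sup_left (r2 g)) (mem_sup_right (mem_zpowers (f τ)))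
      rwa [inv_mul_cancel_right] at this
    have hXD : X ≤ D := hX.trans inf_le_left
    have h1 : (X.subgroupOf D).map f ≤ oc 𝐂[(W.subgroupOf D).map f ⊔ zpowers (f τ)] := by
      refine le_oc ?_ (fun c hc => ?_) ?_
      · rintro _ ⟨y, hy, rfl⟩
        rw [centralizer_sup, centralizer_zpowers]
        refine ⟨tw_cent hW' hWp (od ho y hy), mem_cent.2 (Commute.map ?_ f)⟩
        exact Subtype.ext (mem_cent.1 (hX hy).2)
      · obtain ⟨c, rfl⟩ := hf c
        have hc' := conj_eq_of_comm (show Commute (f τ) (f c) from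
          hc _ (mem_sup_right (mem_zpowers _)))
        have hz : IsPGroup 2 (zpowers τ) := hP.to_le (zpowers_le.2 ht)
        obtain ⟨o, ho', k⟩ := lift hz τ ht c (hc'.symm ▸ mem_map_of_mem f (mem_zpowers τ))
        have e : o * c * τ * (o * c)⁻¹ * τ⁻¹ = 1 :=
          eq_one_of_odd hz (mul_mem k (inv_mem (mem_zpowers τ))) (odd_orderOf tw_odd
            ((QuotientGroup.eq_one_iff _).1 (show f _ = 1 by
              rw [map_mul, map_mul, map_mul, map_inv, map_inv, fo o ho', hc', mul_inv_cancel])))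
        have e2 : ((o * c : D) : G) ∈ 𝐍[X] := hn ⟨(o * c).2, mem_cent.2
          (comm_of_conj_eq (congrArg Subtype.val (mul_inv_eq_one.1 e)))⟩
        rw [← fo o ho' c, ← cj_eq_iff, ← map_cj, cj_subgroupOf, cj_of_mem_normalizer e2]
      · exact ho.of_dvd_nat ((card_map_dvd _ _).trans (Grp.card_subgroupOf_of_le hXD).dvd)
    exact mo (x := ⟨x, hXD hx⟩) (mem_bot.1 ((Grp.pPrimeCore_quotient_pPrimeCore 2 D).le
      (tw_core (h1 (mem_map_of_mem f hx)))))

end Cfsg.Agent.P4T
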