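import Mathlib
import Cfsg.Agent.GHO.G2Q

/-! The model `{(u, v) : u + v even} ⋊ D₈` of a Sylow 2-subgroup of `PSp₄(q)`, `q` odd. -/

set_option autoImplicit false
set_option linter.unusedSectionVars false

namespace Cfsg.Agent.P4T

open Subgroup Cfsg.Agent.Inv Cfsg.Agent.BF Cfsg.Agent.GHO

/-- `(u, v) r₁ ^ e r₂ ^ f σ ^ s` -/
@[ext] structure PK (k : ℕ) : Type where
  u : R k
  v : R k
  e : Bool
  f : Bool
  s : Bool
  ev : ∃ c, u + v = 2 * c

variable {k : ℕ}

/-- a sign -/
def sg (b : Bool) (x : R k) : R k := cond b (-x) x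

@[simp] theorem sg_f (x : R k) : sg false x = x := rfl
@[simp] theorem sg_t (x : R k) : sg true x = -x := rfl

theorem ev_sg (e f s : Bool) {x y : R k} (h : ∃ c, x + y = 2 * c) :
    ∃ c, sg e (cond s y x) + sg f (cond s x y) = 2 * c := by
  obtain ⟨c, h⟩ := h
  cases e <;> cases f <;> cases s <;> simp only [sg_f, sg_t, cond_true, cond_false]
  exacts [⟨c, h⟩, ⟨c, by linear_combination h⟩, ⟨c - y, by linear_combination h⟩,
    ⟨c - x, by linear_combination h⟩, ⟨c - x, by linear_combination h⟩,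
    ⟨c - y, by linear_combination h⟩, ⟨-c, by linear_combination -h⟩, ⟨-c, by linear_combination -h⟩]

theorem ev_add {x y x' y' : R k} (h : ∃ c, x + y = 2 * c) (h' : ∃ c, x' + y' = 2 * c) :
    ∃ c, x + x' + (y + y') = 2 * c := by
  obtain ⟨c, h⟩ := h; obtain ⟨c', h'⟩ := h'
  exact ⟨c + c', by linear_combination h + h'⟩

theorem ev_neg {x y : R k} (h : ∃ c, x + y = 2 * c) : ∃ c, -x + -y = 2 * c := by
  obtain ⟨c, h⟩ := h
  exact ⟨-c, by linear_combination -h⟩

theorem ev_self (x : R k) : ∃ c, x + x = 2 * c := ⟨x, (two_mul x).symm⟩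
theorem ev_anti (x : R k) : ∃ c, x + -x = 2 * c := ⟨0, by ring⟩
theorem ev_m0 : ∃ c, m2 k + 0 = 2 * c := ⟨q4 k, by rw [add_zero, two_q4]⟩
theorem ev_0m : ∃ c, 0 + m2 k = 2 * c := ⟨q4 k, by rw [zero_add, two_q4]⟩

namespace PK

instance instMul : Mul (PK k) :=
  ⟨fun a b => ⟨a.u + sg a.e (cond a.s b.v b.u), a.v + sg a.f (cond a.s b.u b.v),
    xor a.e (cond a.s b.f b.e), xor a.f (cond a.s b.e b.f), xor a.s b.s,
    ev_add a.ev (ev_sg _ _ _ b.ev)⟩⟩
instance instOne : One (PK k) := ⟨⟨0, 0, false, false, false, ev_self 0⟩⟩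
instance instInv : Inv (PK k) :=
  ⟨fun a => ⟨-sg (cond a.s a.f a.e) (cond a.s a.v a.u), -sg (cond a.s a.e a.f) (cond a.s a.u a.v),
    cond a.s a.f a.e, cond a.s a.e a.f, a.s, ev_neg (ev_sg _ _ _ a.ev)⟩⟩

theorem mul_def (u v u' v' : R k) (e f s e' f' s' : Bool) (h h') :
    (⟨u, v, e, f, s, h⟩ * ⟨u', v', e', f', s', h'⟩ : PK k) =
      ⟨u + sg e (cond s v' u'), v + sg f (cond s u' v'), xor e (cond s f' e'), xor f (cond s e' f'),
        xor s s', ev_add h (ev_sg _ _ _ h')⟩ := rfl
theorem one_def : (1 : PK k) = ⟨0, 0, false, false, false, ev_self 0⟩ := rfl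
theorem inv_def (u v : R k) (e f s : Bool) (h) : (⟨u, v, e, f, s, h⟩⁻¹ : PK k) =
    ⟨-sg (cond s f e) (cond s v u), -sg (cond s e f) (cond s u v), cond s f e, cond s e f, s,
      ev_neg (ev_sg _ _ _ h)⟩ := rfl

instance instGroup : Group (PK k) := Group.ofLeftAxioms
  (by
    rintro ⟨u, v, e, f, s, h⟩ ⟨u', v', e', f', s', h'⟩ ⟨u'', v'', e'', f'', s'', h''⟩
    cases e <;> cases f <;> cases s <;> cases e' <;> cases f' <;> cases s' <;>
      simp [mul_def] <;> constructor <;> ring)
  (by rintro ⟨u, v, e, f, s, h⟩; simp [mul_def, one_def])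
  (by rintro ⟨u, v, e, f, s, h⟩; cases e <;> cases f <;> cases s <;> simp [mul_def, one_def, inv_def])

theorem bij : Function.Bijective fun p : PK k × Bool =>
    (p.1.u + cond p.2 1 0, p.1.v, p.1.e, p.1.f, p.1.s) := by
  constructor
  · rintro ⟨⟨u, v, e, f, s, c, h⟩, b⟩ ⟨⟨u', v', e', f', s', c', h'⟩, b'⟩ r
    simp only [Prod.mk.injEq] at r
    obtain ⟨r, rfl, rfl, rfl, rfl⟩ := r
    cases b <;> cases b' <;> simp only [cond_true, cond_false, add_zero, add_left_inj] at r
    · subst r; rfl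
    · exact absurd (by linear_combination r - h + h') (two_ne_odd c c')
    · exact absurd (by linear_combination -r + h - h') (two_ne_odd c' c)
    · subst r; rfl
  · rintro ⟨u, v, e, f, s⟩
    rcases par (u + v) with h | ⟨c, h⟩
    · exact ⟨⟨⟨u, v, e, f, s, h⟩, false⟩, by simp⟩
    · exact ⟨⟨⟨u - 1, v, e, f, s, c, by linear_combination h⟩, true⟩, by simp⟩

instance instFinite : Finite (PK k) :=
  Finite.of_injective (fun p : PK k => (p.u, p.v, p.e, p.f, p.s)) fun _ _ h => by
    simp only [Prod.mk.injEq] at h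
    exact PK.ext h.1 h.2.1 h.2.2.1 h.2.2.2.1 h.2.2.2.2

theorem card_eq : Nat.card (PK k) = 2 ^ (2 * k + 6) := by
  have := Nat.card_eq_of_bijective _ (bij (k := k))
  simp only [Nat.card_prod, Nat.card_zmod, Nat.card_eq_fintype_card (α := Bool),
    Fintype.card_bool] at this
  have h : Nat.card (PK k) * 2 = 2 ^ (2 * k + 6) * 2 := by rw [this]; ring
  omega

theorem isPGroup : IsPGroup 2 (PK k) := IsPGroup.of_card card_eq

end PK

open PK

/-- the central involution -/
def pz (k : ℕ) : PK k := ⟨m2 k, m2 k, false, false, false, ev_self _⟩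
/-- the involution `β` -/
def pb (k : ℕ) : PK k := ⟨m2 k, 0, false, false, false, ev_m0⟩
/-- generator of the cyclic maximal subgroup of `Q₁` -/
def pa (k : ℕ) : PK k := ⟨1, 1, false, false, false, ev_self _⟩
/-- generator of the cyclic maximal subgroup of `Q₂` -/
def pc (k : ℕ) : PK k := ⟨1, -1, false, false, false, ev_anti _⟩
/-- the element of order 4 of `⟨a⟩` -/
def pi1 (k : ℕ) : PK k := ⟨q4 k, q4 k, false, false, false, ev_self _⟩
/-- the element of order 4 of `⟨c⟩` -/
def pi2 (k : ℕ) : PK k := ⟨q4 k, -q4 k, false, false, false, ev_anti _⟩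
/-- the involution `r₂` -/
def pt (k : ℕ) : PK k := ⟨0, 0, false, true, false, ev_self _⟩
/-- the involutions `(c, -c) σ` -/
def ps (c : R k) : PK k := ⟨c, -c, false, false, true, ev_anti _⟩
/-- the involutions `(2 p, m) r₁` -/
def pe1 (p : R k) : PK k := ⟨2 * p, m2 k, true, false, false, p + q4 k, by rw [mul_add, two_q4]⟩
/-- the involutions `(m, 2 p) r₂` -/
def pe2 (p : R k) : PK k := ⟨m2 k, 2 * p, false, true, false, q4 k + p, by rw [mul_add, two_q4]⟩

theorem two_ne_zero' : (2 : R k) ≠ 0 := by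
  simpa using (Z2.two_pow_eq_zero_iff (n := k + 2) (k := 1)).not.2 (by omega)

theorem z_comm (a : PK k) : a * pz k = pz k * a := by
  obtain ⟨u, v, e, f, s, h⟩ := a
  cases e <;> cases f <;> cases s <;> simp [mul_def, pz, neg_m2, add_comm]

theorem z_sq : pz k * pz k = 1 := by simp [mul_def, pz, one_def, m2_add]

theorem z_ne : pz k ≠ 1 := by simp [pz, one_def, m2_ne]

theorem center_eq {a : PK k} (h : ∀ b, b * a = a * b) : a = 1 ∨ a = pz k := by
  obtain ⟨u, v, e, f, s, h0⟩ := a
  have h1 := h (pa k)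
  have h2 := h (pt k)
  have h3 := h (ps 0)
  have h4 := h (pc k)
  have h5 := two_ne_zero' (k := k)
  cases e <;> cases f <;> cases s <;> simp [mul_def, pa, pc, pt, ps] at h1 h2 h3 h4
  · have : 2 * v = 0 := by linear_combination -h2
    rcases two_eq_zero.1 this with r | r
    · left; simp [one_def, ← h3.1, r]
    · right; simp [pz, ← h3.1, r]
  · exact absurd (by linear_combination h1.1) h5

theorem inj_of_z {G : Type*} [Group G] (ι : PK k →* G) (h : ι (pz k) ≠ 1) :
    Function.Injective ι := by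
  rw [← MonoidHom.ker_eq_bot_iff]
  by_contra r
  obtain ⟨⟨a, ha, hc⟩, h1⟩ := ne_bot_iff_exists_ne_one.1 (PLocal.GN.inf_center_ne_bot isPGroup r)
  rcases center_eq (mem_center_iff.1 hc) with r | r
  · exact h1 (Subtype.ext r)
  · exact h (r ▸ ha)

theorem pw_mk (x y : R k) (h) (n : ℕ) :
    (⟨x, y, false, false, false, h⟩ : PK k) ^ n = ⟨n * x, n * y, false, false, false, by
      obtain ⟨c, h⟩ := h; exact ⟨n * c, by linear_combination n * h⟩⟩ := by
  induction n with
  | zero => simp [one_def]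
  | succ n ih => rw [pow_succ, ih]; simp [mul_def, add_mul]

section lift

variable {G : Type*} [Group G]

/-- the defining relations -/
structure Rel (k : ℕ) (a c t σ : G) : Prop where
  ha : a ^ 2 ^ (k + 2) = 1
  ac : a * c = c * a
  hm : (a * c) ^ 2 ^ (k + 1) = 1
  ta : t * a * t⁻¹ = c
  tt : t * t = 1
  ss : σ * σ = 1
  sa : σ * a * σ⁻¹ = a
  sc : σ * c * σ⁻¹ = c⁻¹
  st : σ * t * σ * t = t * (σ * t * σ)

variable {a c t σ : G}

theorem Rel.hc (h : Rel k a c t σ) : c ^ 2 ^ (k + 2) = 1 := by rw [← h.ta, conj_pow, h.ha]; simp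

theorem Rel.tc (h : Rel k a c t σ) : t * c * t⁻¹ = a := by
  rw [← h.ta, ← mul_assoc, ← mul_assoc, h.tt, mul_assoc, ← mul_inv_rev, h.tt]; simp

/-- the value on the abelian part -/
def av (a c : G) (u v : R k) : G := a ^ v.val * (a * c) ^ ((u - v).val / 2)

theorem Rel.av_eq (h : Rel k a c t σ) (x y : R k) :
    av a c (x + y) (x - y) = a ^ x.val * c ^ y.val := by
  have h1 : (x + y - (x - y)).val / 2 = y.val % 2 ^ (k + 1) := by
    rw [show x + y - (x - y) = y + y by ring, ZMod.val_add, ← two_mul]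
    generalize y.val = n
    rw [pow_succ' 2 (k + 1), Nat.mul_mod_mul_left, Nat.mul_div_cancel_left _ two_pos]
  rw [av, h1, ← pow_eq_pow_mod _ h.hm, Commute.mul_pow h.ac, ← mul_assoc, ← pw_add h.ha,
    sub_add_cancel]

theorem Rel.av_add (h : Rel k a c t σ) {u v u' v' : R k} (e : ∃ c, u + v = 2 * c)
    (e' : ∃ c, u' + v' = 2 * c) : av a c (u + u') (v + v') = av a c u v * av a c u' v' := by
  obtain ⟨x, e⟩ := e; obtain ⟨x', e'⟩ := e'
  have h1 := h.av_eq x (u - x)
  have h2 := h.av_eq x' (u' - x')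
  have h3 := h.av_eq (x + x') (u - x + (u' - x'))
  rw [show x + (u - x) = u by ring, show x - (u - x) = v by linear_combination -e] at h1
  rw [show x' + (u' - x') = u' by ring, show x' - (u' - x') = v' by linear_combination -e'] at h2
  rw [show x + x' + (u - x + (u' - x')) = u + u' by ring,
    show x + x' - (u - x + (u' - x')) = v + v' by linear_combination -e - e'] at h3
  rw [h1, h2, h3, pw_add h.ha, pw_add h.hc]
  exact (Commute.pow_pow h.ac _ _).mul_mul_mul_comm _ _

theorem Rel.av_t (h : Rel k a c t σ) {u v : R k} (e : ∃ c, u + v = 2 * c) :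
    t * av a c u v = av a c u (-v) * t := by
  obtain ⟨x, e⟩ := e
  have h1 := h.av_eq x (u - x)
  have h2 := h.av_eq (u - x) x
  rw [show x + (u - x) = u by ring, show x - (u - x) = v by linear_combination -e] at h1
  rw [show u - x + x = u by ring, show u - x - x = -v by linear_combination e] at h2
  rw [h1, h2, (Commute.pow_pow h.ac (u - x).val _).eq]
  calc _ = (t * a * t⁻¹) ^ x.val * (t * c * t⁻¹) ^ (u - x).val * t := by rw [conj_pow, conj_pow]; group
    _ = _ := by rw [h.ta, h.tc]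

theorem Rel.av_s (h : Rel k a c t σ) {u v : R k} (e : ∃ c, u + v = 2 * c) :
    σ * av a c u v = av a c v u * σ := by
  obtain ⟨x, e⟩ := e
  have h1 := h.av_eq x (u - x)
  have h2 := h.av_eq x (-(u - x))
  rw [show x + (u - x) = u by ring, show x - (u - x) = v by linear_combination -e] at h1
  rw [show x + -(u - x) = v by linear_combination -e, show x - -(u - x) = u by ring] at h2
  rw [h1, h2, pw_neg h.hc, ← inv_pow]
  calc _ = (σ * a * σ⁻¹) ^ x.val * (σ * c * σ⁻¹) ^ (u - x).val * σ := by rw [conj_pow, conj_pow]; group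
    _ = _ := by rw [h.sa, h.sc]

theorem Rel.av_r (h : Rel k a c t σ) {u v : R k} (e : ∃ c, u + v = 2 * c) :
    σ * t * σ * av a c u v = av a c (-u) v * (σ * t * σ) := by
  obtain ⟨x, e⟩ := e
  rw [mul_assoc, h.av_s ⟨x, e⟩, ← mul_assoc, mul_assoc σ, h.av_t ⟨x, by linear_combination e⟩,
    ← mul_assoc, h.av_s ⟨x - u, by linear_combination e⟩]
  simp only [mul_assoc]

/-- the value on the dihedral part -/
def dv (t σ : G) (e f s : Bool) : G := cond e (σ * t * σ) 1 * (cond f t 1 * cond s σ 1)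

theorem Rel.cj (h : Rel k a c t σ) (e f s : Bool) {u v : R k} (p : ∃ c, u + v = 2 * c) :
    dv t σ e f s * av a c u v = av a c (sg e (cond s v u)) (sg f (cond s u v)) * dv t σ e f s := by
  have h1 : cond s σ 1 * av a c u v = av a c (cond s v u) (cond s u v) * cond s σ 1 := by
    cases s
    exacts [by simp, h.av_s p]
  have p1 := ev_sg false false s p
  have p2 := ev_sg false f s p
  simp only [sg_f] at p1 p2
  have h2 : cond f t 1 * av a c (cond s v u) (cond s u v) =
      av a c (cond s v u) (sg f (cond s u v)) * cond f t 1 := by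
    cases f
    exacts [by simp, h.av_t p1]
  have h3 : cond e (σ * t * σ) 1 * av a c (cond s v u) (sg f (cond s u v)) =
      av a c (sg e (cond s v u)) (sg f (cond s u v)) * cond e (σ * t * σ) 1 := by
    cases e
    exacts [by simp, h.av_r p2]
  rw [dv, mul_assoc, mul_assoc (cond f t 1), h1, ← mul_assoc (cond f t 1), h2, ← mul_assoc,
    ← mul_assoc, h3]
  simp only [mul_assoc]

theorem Rel.dv_mul (h : Rel k a c t σ) (e f s e' f' s' : Bool) :
    dv t σ (xor e (cond s f' e')) (xor f (cond s e' f')) (xor s s') =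
      dv t σ e f s * dv t σ e' f' s' := by
  have h1 : ∀ w, t * (t * w) = w := fun w => by rw [← mul_assoc, h.tt, one_mul]
  have h2 : ∀ w, σ * (σ * w) = w := fun w => by rw [← mul_assoc, h.ss, one_mul]
  have h3 : ∀ w, t * (σ * (t * (σ * w))) = σ * (t * (σ * (t * w))) := fun w => by
    have := congrArg (· * w) h.st
    simpa only [mul_assoc] using this.symm
  have h4 : t * (σ * (t * σ)) = σ * (t * (σ * t)) := by simpa using h3 1
  cases e <;> cases f <;> cases s <;> cases e' <;> cases f' <;> cases s' <;>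
    simp [dv, mul_assoc, h1, h2, h3, h4, h.tt, h.ss]

/-- the homomorphism given by the relations -/
def Rel.lift (h : Rel k a c t σ) : PK k →* G := MonoidHom.mk'
  (fun g => av a c g.u g.v * dv t σ g.e g.f g.s) (by
    rintro ⟨u, v, e, f, s, p⟩ ⟨u', v', e', f', s', p'⟩
    simp only [mul_def]
    rw [h.av_add p (ev_sg _ _ _ p'), h.dv_mul, mul_assoc, mul_assoc, ← mul_assoc (dv t σ e f s),
      h.cj e f s p', mul_assoc])

theorem Rel.lift_z (h : Rel k a c t σ) : h.lift (pz k) = a ^ 2 ^ (k + 1) := by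
  have : (m2 k).val = 2 ^ (k + 1) := by
    have := ZMod.val_cast_of_lt (n := 2 ^ (k + 2)) (a := 2 ^ (k + 1))
      (Nat.pow_lt_pow_right (by omega) (by omega))
    rwa [Nat.cast_pow, Nat.cast_ofNat] at this
  simp [Rel.lift, pz, av, dv, this]

theorem Rel.lift_inj (h : Rel k a c t σ) (h1 : a ^ 2 ^ (k + 1) ≠ 1) : Function.Injective h.lift :=
  inj_of_z _ (by rwa [h.lift_z])

end lift

end Cfsg.Agent.P4T
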