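import Mathlib
import Cfsg.Agent.P4T.K

/-! Subgroups of the model: `Q = Q₁ Q₂`, the abelian subgroup `A₀`, `M = C(β)`. -/

set_option autoImplicit false
set_option linter.unusedSectionVars false

namespace Cfsg.Agent.P4T

open Subgroup Cfsg.Agent.Inv Cfsg.Agent.BF Cfsg.Agent.GHO PK

variable {k : ℕ} {x y : PK k}

/-- the central product `Q₁ Q₂` -/
def kQ (k : ℕ) : Subgroup (PK k) where
  carrier := {a | a.e = a.f}
  one_mem' := rfl
  mul_mem' := by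
    rintro ⟨u, v, e, f, s, h⟩ ⟨u', v', e', f', s', h'⟩ (rfl : e = f) (rfl : e' = f')
    cases s <;> rfl
  inv_mem' := by rintro ⟨u, v, e, f, s, h⟩ (rfl : e = f); cases s <;> rfl

/-- the abelian subgroup -/
def kA (k : ℕ) : Subgroup (PK k) where
  carrier := {a | a.e = false ∧ a.f = false ∧ a.s = false}
  one_mem' := ⟨rfl, rfl, rfl⟩
  mul_mem' := by
    rintro ⟨u, v, e, f, s, h⟩ ⟨u', v', e', f', s', h'⟩ ⟨rfl, rfl, rfl⟩ ⟨rfl, rfl, rfl⟩
    exact ⟨rfl, rfl, rfl⟩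
  inv_mem' := by rintro ⟨u, v, e, f, s, h⟩ ⟨rfl, rfl, rfl⟩; exact ⟨rfl, rfl, rfl⟩

/-- the centraliser of `β` -/
def kM (k : ℕ) : Subgroup (PK k) where
  carrier := {a | a.s = false}
  one_mem' := rfl
  mul_mem' := by
    rintro ⟨u, v, e, f, s, h⟩ ⟨u', v', e', f', s', h'⟩ (rfl : s = false) (rfl : s' = false); rfl
  inv_mem' := by rintro ⟨u, v, e, f, s, h⟩ (rfl : s = false); rfl

/-- the first quaternion subgroup -/
def Q1 (k : ℕ) : Subgroup (PK k) where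
  carrier := {a | a.e = a.s ∧ a.f = a.s ∧ a.u = a.v + cond a.s (m2 k) 0}
  one_mem' := ⟨rfl, rfl, by simp [one_def]⟩
  mul_mem' := by
    rintro ⟨u, v, e, f, s, p⟩ ⟨u', v', e', f', s', p'⟩ ⟨rfl : e = s, rfl : f = e, h⟩
      ⟨rfl : e' = s', rfl : f' = e', h'⟩
    cases f <;> cases f' <;> simp [mul_def] at h h' ⊢
    · linear_combination h + h'
    · linear_combination h + h'
    · linear_combination h + h'
    · linear_combination h + h' + two_m2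
  inv_mem' := by
    rintro ⟨u, v, e, f, s, p⟩ ⟨rfl : e = s, rfl : f = e, h⟩
    cases f <;> simp [inv_def] at h ⊢
    · exact h
    · linear_combination -h - two_m2

theorem mem_Q : x ∈ kQ k ↔ x.e = x.f := Iff.rfl
theorem mem_A : x ∈ kA k ↔ x.e = false ∧ x.f = false ∧ x.s = false := Iff.rfl
theorem mem_M : x ∈ kM k ↔ x.s = false := Iff.rfl
theorem mem_Q1 : x ∈ Q1 k ↔ x.e = x.s ∧ x.f = x.s ∧ x.u = x.v + cond x.s (m2 k) 0 := Iff.rfl

theorem t_sq : pt k * pt k = 1 := by simp [pt, mul_def, one_def]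
theorem t_inv : (pt k)⁻¹ = pt k := inv_eq_of_mul_eq_one_right t_sq
theorem t_not : pt k ∉ kQ k := by simp [pt, mem_Q]

/-- conjugation by `r₂` -/
def sy (k : ℕ) : PK k →* PK k := (MulAut.conj (pt k)).toMonoidHom

theorem sy_apply (a : PK k) : sy k a = pt k * a * (pt k)⁻¹ := rfl

theorem sy_mk (u v : R k) (e f s : Bool) (h) : sy k ⟨u, v, e, f, s, h⟩ =
    ⟨u, -v, xor e s, xor f s, s, by obtain ⟨c, h⟩ := h; exact ⟨c - v, by linear_combination h⟩⟩ := by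
  cases e <;> cases f <;> cases s <;> simp [sy_apply, pt, mul_def, inv_def]

theorem sy_sy (a : PK k) : sy k (sy k a) = a := by
  obtain ⟨u, v, e, f, s, h⟩ := a; simp [sy_mk]

theorem sy_bij : Function.Bijective (sy k) := Function.Involutive.bijective sy_sy

/-- the second quaternion subgroup -/
def Q2 (k : ℕ) : Subgroup (PK k) := (Q1 k).comap (sy k)

theorem mem_Q2 : x ∈ Q2 k ↔ x.e = false ∧ x.f = false ∧ x.u + x.v = cond x.s (m2 k) 0 := by
  obtain ⟨u, v, e, f, s, h⟩ := x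
  rw [Q2, mem_comap, sy_mk, mem_Q1]
  cases e <;> cases f <;> cases s <;> simp [eq_neg_iff_add_eq_zero, eq_neg_add_iff_add_eq, add_comm]

theorem sy_Q1 (h : x ∈ Q1 k) : sy k x ∈ Q2 k := by rwa [Q2, mem_comap, sy_sy]
theorem sy_Q2 (h : x ∈ Q2 k) : sy k x ∈ Q1 k := h
theorem sy_z : sy k (pz k) = pz k := by simp [pz, sy_mk, neg_m2]
theorem sy_b : sy k (pb k) = pb k := by simp [pb, sy_mk]
theorem sy_t : sy k (pt k) = pt k := by simp [pt, sy_mk]
theorem sy_i1 : sy k (pi1 k) = pi2 k := by simp [pi1, pi2, sy_mk]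
theorem sy_i2 : sy k (pi2 k) = pi1 k := by rw [← sy_i1, sy_sy]
theorem sy_a : sy k (pa k) = pc k := by simp [pa, pc, sy_mk]
theorem sy_A (h : x ∈ kA k) : sy k x ∈ kA k := by
  obtain ⟨u, v, e, f, s, p⟩ := x; obtain ⟨rfl, rfl, rfl⟩ := h; simp [sy_mk, mem_A]
theorem sy_Q (h : x ∈ kQ k) : sy k x ∈ kQ k := by
  obtain ⟨u, v, e, f, s, p⟩ := x; obtain rfl : e = f := h; simp [sy_mk, mem_Q]

theorem map_sy_Q1 : (Q1 k).map (sy k) = Q2 k := by
  ext a
  exact ⟨by rintro ⟨b, hb, rfl⟩; exact sy_Q1 hb, fun h => ⟨_, h, sy_sy a⟩⟩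

theorem map_sy_Q2 : (Q2 k).map (sy k) = Q1 k := map_comap_eq_self_of_surjective sy_bij.2 _

theorem map_sy_Q : (kQ k).map (sy k) = kQ k := by
  ext a
  exact ⟨by rintro ⟨b, hb, rfl⟩; exact sy_Q hb, fun h => ⟨_, sy_Q h, sy_sy a⟩⟩

theorem Q1_le_Q : Q1 k ≤ kQ k := fun _ h => h.1.trans h.2.1.symm
theorem Q2_le_Q : Q2 k ≤ kQ k := fun _ h => (mem_Q2.1 h).1.trans (mem_Q2.1 h).2.1.symm
theorem A_le_Q : kA k ≤ kQ k := fun _ h => h.1.trans h.2.1.symm
theorem A_le_M : kA k ≤ kM k := fun _ h => h.2.2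

theorem i1_mem : pi1 k ∈ Q1 k := by simp [pi1, mem_Q1]
theorem i2_mem : pi2 k ∈ Q2 k := by simp [pi2, mem_Q2]
theorem a_mem : pa k ∈ Q1 k := by simp [pa, mem_Q1]
theorem z_mem1 : pz k ∈ Q1 k := by simp [pz, mem_Q1]
theorem z_mem2 : pz k ∈ Q2 k := by simp [pz, mem_Q2, m2_add]
theorem i1_A : pi1 k ∈ kA k := ⟨rfl, rfl, rfl⟩
theorem i2_A : pi2 k ∈ kA k := ⟨rfl, rfl, rfl⟩
theorem a_A : pa k ∈ kA k := ⟨rfl, rfl, rfl⟩
theorem b_A : pb k ∈ kA k := ⟨rfl, rfl, rfl⟩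
theorem z_A : pz k ∈ kA k := ⟨rfl, rfl, rfl⟩
theorem i1_sq : pi1 k * pi1 k = pz k := by simp [pi1, pz, mul_def, q4_add]
theorem i2_sq : pi2 k * pi2 k = pz k := by rw [← sy_i1, ← map_mul, i1_sq, sy_z]
theorem i1_i2 : pi1 k * pi2 k = pb k := by simp [pi1, pi2, pb, mul_def, q4_add]
theorem b_sq : pb k * pb k = 1 := by simp [pb, mul_def, one_def, m2_add]
theorem b_ne : pb k ≠ 1 := by simp [pb, one_def, m2_ne]
theorem b_ne_z : pb k ≠ pz k := by simp [pb, pz, m2_ne.symm]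
theorem bz_eq : pb k * pz k = ⟨0, m2 k, false, false, false, ev_0m⟩ := by
  simp [pb, pz, mul_def, m2_add]
theorem s_b : ps 0 * pb k * (ps 0)⁻¹ = pb k * pz k := by
  rw [bz_eq]; simp [ps, pb, mul_def, inv_def]
theorem s_bz : ps 0 * (pb k * pz k) * (ps 0)⁻¹ = pb k := by
  rw [bz_eq]; simp [ps, pb, mul_def, inv_def]
theorem s_sq (c : R k) : ps c * ps c = 1 := by simp [ps, mul_def, one_def]
theorem s_ne (c : R k) : ps c ≠ 1 ∧ ps c ≠ pz k := by simp [ps, one_def, pz]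
theorem a_s (c : R k) : pa k * ps c = ps c * pa k := by simp [ps, pa, mul_def, add_comm]
theorem a_pow : pa k ^ 2 ^ (k + 1) = pz k := by simp [pa, pw_mk, pz, m2]
theorem a_pow' : pa k ^ 2 ^ k = pi1 k := by simp [pa, pw_mk, pi1, q4]
theorem c_pow : pc k ^ 2 ^ (k + 1) = pz k := by rw [← sy_a, ← map_pow, a_pow, sy_z]
theorem ac_pow : (pa k * pc k) ^ 2 ^ k = pb k := by
  simp [pa, pc, mul_def, pw_mk, pb]
  rw [← two_q4, q4]; ring

theorem A_comm (ha : x ∈ kA k) (hb : y ∈ kA k) : x * y = y * x := by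
  obtain ⟨u, v, e, f, s, p⟩ := x; obtain ⟨u', v', e', f', s', p'⟩ := y
  obtain ⟨rfl, rfl, rfl⟩ := ha; obtain ⟨rfl, rfl, rfl⟩ := hb
  simp [mul_def, add_comm]

theorem Q_norm (c : PK k) (h : x ∈ kQ k) : c * x * c⁻¹ ∈ kQ k := by
  obtain ⟨u, v, e, f, s, p⟩ := x; obtain ⟨u', v', e', f', s', p'⟩ := c
  obtain rfl : e = f := h
  cases e <;> cases s <;> cases e' <;> cases f' <;> cases s' <;> rfl

theorem A_norm (c : PK k) (h : x ∈ kA k) : c * x * c⁻¹ ∈ kA k := by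
  obtain ⟨u, v, e, f, s, p⟩ := x; obtain ⟨u', v', e', f', s', p'⟩ := c
  obtain ⟨rfl, rfl, rfl⟩ := h
  cases e' <;> cases f' <;> cases s' <;> exact ⟨rfl, rfl, rfl⟩

theorem Q1_norm {c : PK k} (hc : c ∈ kQ k) (h : x ∈ Q1 k) : c * x * c⁻¹ ∈ Q1 k := by
  obtain ⟨u, v, e, f, s, p⟩ := x; obtain ⟨u', v', e', f', s', p'⟩ := c
  obtain ⟨rfl : e = s, rfl : f = e, h⟩ := h
  obtain rfl : e' = f' := hc
  cases f <;> cases e' <;> cases s' <;> simp [mem_Q1, mul_def, inv_def] at h ⊢ <;>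
    first | linear_combination h | linear_combination -h | linear_combination -h - two_m2

theorem mem_or (x : PK k) : x ∈ kQ k ∨ x * pt k ∈ kQ k := by
  obtain ⟨u, v, e, f, s, p⟩ := x
  cases e <;> cases f <;> cases s <;> simp [mem_Q, pt, mul_def]

theorem mul_mem_Q (hx : x ∉ kQ k) (hy : y ∉ kQ k) : x * y ∈ kQ k := by
  obtain ⟨u, v, e, f, s, p⟩ := x; obtain ⟨u', v', e', f', s', p'⟩ := y
  revert hx hy
  cases e <;> cases f <;> cases s <;> cases e' <;> cases f' <;> simp [mem_Q, mul_def]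

theorem card_Q : Nat.card (kQ k) * 2 = Nat.card (PK k) := by
  rw [← card_mul_index (kQ k), index_eq_two_iff.2 ⟨pt k, fun b => ?_⟩]
  obtain ⟨u, v, e, f, s, p⟩ := b
  cases e <;> cases f <;> cases s <;> simp [mem_Q, pt, mul_def]

theorem card_M : Nat.card (kM k) * 2 = Nat.card (PK k) := by
  rw [← card_mul_index (kM k), index_eq_two_iff.2 ⟨ps 0, fun b => ?_⟩]
  obtain ⟨u, v, e, f, s, p⟩ := b
  cases s <;> simp [mem_M, ps, mul_def]

theorem Q_comm (ha : x ∈ Q1 k) (hb : y ∈ Q2 k) : x * y = y * x := by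
  obtain ⟨u, v, e, f, s, p⟩ := x; obtain ⟨u', v', e', f', s', p'⟩ := y
  obtain ⟨rfl : e = s, rfl : f = e, h⟩ := ha; obtain ⟨rfl, rfl, h'⟩ := mem_Q2.1 hb
  cases f <;> cases s' <;> simp [mul_def] at h h' ⊢
  · exact ⟨add_comm _ _, add_comm _ _⟩
  · exact ⟨by linear_combination h, by linear_combination -h⟩
  · exact ⟨by linear_combination -h', by linear_combination -h'⟩
  · exact ⟨by linear_combination h - h', by linear_combination -h - h' - two_m2⟩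

theorem Q_inf (ha : x ∈ Q1 k) (hb : x ∈ Q2 k) : x = 1 ∨ x = pz k := by
  obtain ⟨u, v, e, f, s, p⟩ := x
  obtain ⟨rfl : e = s, rfl : f = e, h⟩ := ha; obtain ⟨rfl, -, h'⟩ := mem_Q2.1 hb
  simp only [cond_false, add_zero] at h h'
  subst h
  rcases (two_eq_zero (x := u)).1 (by linear_combination h') with rfl | rfl
  exacts [Or.inl rfl, Or.inr rfl]

theorem not_Q2 (h : x ∈ Q1 k) (h2 : x * x = pz k) : x ∉ Q2 k := fun r => by
  rcases Q_inf h r with rfl | rfl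
  · exact z_ne (by simpa using h2.symm)
  · exact z_ne (h2.symm.trans z_sq)

theorem Q1_invol (h : x ∈ Q1 k) (h2 : x * x = 1) : x = 1 ∨ x = pz k := by
  obtain ⟨u, v, e, f, s, p⟩ := x
  obtain ⟨rfl : e = s, rfl : f = e, h'⟩ := h
  cases f <;> simp [mul_def, one_def, pz, ← two_mul, two_eq_zero] at h2 h' ⊢
  · subst h'; simpa using h2
  · exact m2_ne (k := k) (by linear_combination h2.1 - h')

theorem Q2_invol (h : x ∈ Q2 k) (h2 : x * x = 1) : x = 1 ∨ x = pz k := by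
  rcases Q1_invol (sy_Q2 h) (by rw [← map_mul, h2, map_one]) with r | r
  · exact Or.inl (sy_bij.1 (r.trans (map_one _).symm))
  · exact Or.inr (sy_bij.1 (r.trans sy_z.symm))

theorem Q1_out (h : x ∈ Q1 k) (hA : x ∉ kA k) : x * x = pz k := by
  obtain ⟨u, v, e, f, s, p⟩ := x
  obtain ⟨rfl : e = s, rfl : f = e, h'⟩ := h
  cases f
  · exact absurd ⟨rfl, rfl, rfl⟩ hA
  simp only [mul_def, pz, cond_true, sg_t, PK.mk.injEq] at h' ⊢
  exact ⟨by linear_combination h', by linear_combination -h' - two_m2, rfl, rfl, rfl⟩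

theorem Q2_out (h : x ∈ Q2 k) (hA : x ∉ kA k) : x * x = pz k :=
  sy_bij.1 (by rw [map_mul, Q1_out (sy_Q2 h) fun r => hA (sy_sy x ▸ sy_A r), sy_z])

theorem sq_eq_z (h : x * x = pz k) : x ∈ Q1 k ∨ x ∈ Q2 k := by
  obtain ⟨u, v, e, f, s, p⟩ := x
  rw [mem_Q1, mem_Q2]
  cases e <;> cases f <;> cases s <;>
    simp [mul_def, pz, ← two_mul, two_eq_m2, m2_ne.symm] at h ⊢
  · rcases h with ⟨rfl | rfl, rfl | rfl⟩ <;> simp
  · exact h.1
  · linear_combination h.1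

theorem A_Q1_four (hA : x ∈ kA k) (ha : x ∈ Q1 k) (h : x * x = pz k) :
    x = pi1 k ∨ x = (pi1 k)⁻¹ := by
  obtain ⟨u, v, e, f, s, p⟩ := x
  obtain ⟨rfl, rfl, rfl⟩ := hA
  obtain ⟨-, -, h'⟩ := ha
  simp [mul_def, pz, ← two_mul, two_eq_m2] at h h'
  subst h'
  rcases h.1 with rfl | rfl <;> simp [pi1, inv_def]

theorem A_Q2_four (hA : x ∈ kA k) (ha : x ∈ Q2 k) (h : x * x = pz k) :
    x = pi2 k ∨ x = (pi2 k)⁻¹ := by
  rcases A_Q1_four (sy_A hA) (sy_Q2 ha) (by rw [← map_mul, h, sy_z]) with r | r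
  · exact Or.inl (sy_bij.1 (r.trans sy_i2.symm))
  · exact Or.inr (sy_bij.1 (r.trans (by rw [map_inv, sy_i2])))

/-- an element of order 4 of `Q₁` outside `A₀` -/
def pj (k : ℕ) : PK k := ⟨m2 k, 0, true, true, true, ev_m0⟩

theorem j_mem : pj k ∈ Q1 k := by simp [pj, mem_Q1]
theorem j_not : pj k ∉ kA k := by simp [pj, mem_A]
theorem i_j : pi1 k * pj k ≠ pj k * pi1 k := fun h => m2_ne (k := k) (by
  simp only [pi1, pj, mul_def, cond_true, cond_false, sg_t, sg_f, PK.mk.injEq] at h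
  linear_combination h.1 - two_q4)

theorem j_inv (h : x ∈ Q1 k) (hA : x ∈ kA k) (hy : y ∈ Q1 k) (hy' : y ∉ kA k) :
    y * x * y⁻¹ = x⁻¹ := by
  obtain ⟨u, v, e, f, s, p⟩ := x; obtain ⟨u', v', e', f', s', p'⟩ := y
  obtain ⟨rfl, rfl, rfl⟩ := hA
  obtain ⟨rfl : e' = s', rfl : f' = e', h'⟩ := hy
  obtain ⟨-, -, h⟩ := h
  cases f'
  · exact absurd ⟨rfl, rfl, rfl⟩ hy'
  simp [mul_def, inv_def] at h ⊢
  exact ⟨h.symm, h⟩

theorem dec_Q (h : x ∈ kQ k) : ∃ b ∈ Q1 k, ∃ c ∈ Q2 k, x = b * c := by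
  obtain ⟨u, v, e, f, s, c, hc⟩ := x
  obtain rfl : e = f := h
  simp only [mem_Q1, mem_Q2]
  cases e <;> cases s
  · refine ⟨⟨c, c, false, false, false, ev_self _⟩, by simp,
      ⟨u - c, v - c, false, false, false, 0, by linear_combination hc⟩, ⟨rfl, rfl, ?_⟩,
      by simp [mul_def]⟩
    simp only [cond_false]; linear_combination hc
  · refine ⟨⟨c - q4 k, c - q4 k, false, false, false, ev_self _⟩, by simp,
      ⟨u - c + q4 k, v - c + q4 k, false, false, true, q4 k, by linear_combination hc⟩,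
      ⟨rfl, rfl, ?_⟩, by simp [mul_def]⟩
    simp only [cond_true]; linear_combination hc + two_q4
  · refine ⟨⟨c + m2 k, c + 2 * m2 k, true, true, true, c + q4 k, by
      linear_combination two_m2 - two_q4⟩, ⟨rfl, rfl, ?_⟩,
      ⟨c + 2 * m2 k - v, c + m2 k - u, false, false, true, q4 k, by
        linear_combination two_m2 - two_q4 - hc⟩, ⟨rfl, rfl, ?_⟩, by simp [mul_def]⟩
    · simp only [cond_true]; linear_combination -two_m2
    · simp only [cond_true]; linear_combination two_m2 - hc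
  · refine ⟨⟨c + q4 k, c - q4 k, true, true, true, c, by ring⟩, ⟨rfl, rfl, ?_⟩,
      ⟨c - q4 k - v, c + q4 k - u, false, false, false, 0, by linear_combination -hc⟩,
      ⟨rfl, rfl, ?_⟩, by simp [mul_def]⟩
    · simp only [cond_true]; linear_combination two_q4
    · simp only [cond_false]; linear_combination -hc

theorem dec_A (h : x ∈ kA k) : ∃ b ∈ Q1 k ⊓ kA k, ∃ c ∈ Q2 k ⊓ kA k, x = b * c := by
  obtain ⟨u, v, e, f, s, c, hc⟩ := x
  obtain ⟨rfl, rfl, rfl⟩ := h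
  refine ⟨⟨c, c, false, false, false, ev_self _⟩, ⟨by simp [mem_Q1], rfl, rfl, rfl⟩,
    ⟨u - c, v - c, false, false, false, 0, by linear_combination hc⟩,
    ⟨mem_Q2.2 ⟨rfl, rfl, ?_⟩, rfl, rfl, rfl⟩, by simp [mul_def]⟩
  simp only [cond_false]; linear_combination hc

theorem cent_Q1 (h : ∀ b ∈ Q1 k, x * b = b * x) : x ∈ Q2 k := by
  obtain ⟨u, v, e, f, s, p⟩ := x
  have h1 := h _ i1_mem
  have h2 := h _ j_mem
  rw [mem_Q2]
  cases e <;> cases f <;> cases s <;> simp [mul_def, pi1, pj] at h1 h2 ⊢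
  · linear_combination h2.2
  · linear_combination h2.1
  · exact m2_ne (k := k) (by linear_combination -h1.1 - two_q4)
  · exact m2_ne (k := k) (by linear_combination -h1.1 - two_q4)

theorem cent_Q2 (h : ∀ b ∈ Q2 k, x * b = b * x) : x ∈ Q1 k := by
  have := cent_Q1 (x := sy k x) fun b hb => by
    rw [← sy_sy b, ← map_mul, ← map_mul, h _ (sy_Q1 hb)]
  rwa [Q2, mem_comap, sy_sy] at this

theorem Q1_le {N : Subgroup (PK k)} (h : ∀ a ∈ Q1 k, a * a = pz k → a ∈ N) : Q1 k ≤ N := by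
  intro a ha
  by_cases he : a ∈ kA k
  · have h1 := mul_mem ha j_mem
    exact (N.mul_mem_cancel_right (h _ j_mem (Q1_out j_mem j_not))).1 (h _ h1 (Q1_out h1 fun r =>
      j_not ((Subgroup.mul_mem_cancel_left _ he).1 r)))
  · exact h a ha (Q1_out ha he)

theorem Q1_A_pow (h : x ∈ Q1 k) (hA : x ∈ kA k) : ∃ n : ℕ, x = pa k ^ n := by
  obtain ⟨u, v, e, f, s, p⟩ := x
  obtain ⟨rfl, rfl, rfl⟩ := hA
  obtain ⟨-, -, h⟩ := h
  exact ⟨v.val, by simpa [pa, pw_mk] using h⟩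

theorem Q1_pow_z (ha : x ∈ Q1 k) (h1 : x ≠ 1) : ∃ n : ℕ, x ^ n = pz k := by
  by_cases hA : x ∈ kA k
  swap
  · exact ⟨2, by rw [sq, Q1_out ha hA]⟩
  obtain ⟨u, v, e, f, s, p⟩ := x
  obtain ⟨rfl, rfl, rfl⟩ := hA
  obtain ⟨-, -, h⟩ := ha
  simp only [cond_false, add_zero] at h
  subst h
  by_cases h2 : 2 * u = 0
  · rcases two_eq_zero.1 h2 with rfl | rfl
    exacts [absurd rfl h1, ⟨1, pow_one _⟩]
  · obtain ⟨n, hn⟩ := exists_mul_eq (j := 0) (c := u) (by simpa using h2)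
    exact ⟨n, by simpa [pw_mk, pz] using hn⟩

theorem Q1_pow (ha : x ∈ Q1 k) (h1 : x ≠ 1) (hz : x ≠ pz k) :
    ∃ n : ℕ, x ^ n * x ^ n = pz k := by
  by_cases hA : x ∈ kA k
  swap
  · exact ⟨1, by rw [pow_one, Q1_out ha hA]⟩
  obtain ⟨n, hn⟩ := Q1_pow_z (mul_mem ha ha) fun r => (Q1_invol ha r).elim h1 hz
  exact ⟨n, by rw [← hn, ← (Commute.refl x).mul_pow]⟩

theorem Q1_zero {x : PK 0} (h : x ∈ Q1 0) : x * x = 1 ∨ x * x = pz 0 := by
  by_cases hA : x ∈ kA 0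
  · obtain ⟨u, v, e, f, s, p⟩ := x
    obtain ⟨rfl, rfl, rfl⟩ := hA
    obtain ⟨-, -, h⟩ := h
    simp only [cond_false, add_zero] at h
    subst h
    simp only [mul_def, one_def, pz, cond_false, sg_f, PK.mk.injEq, Bool.xor_false, and_true,
      and_self, ← two_mul]
    exact two_eq_zero.1 (by rw [← mul_assoc]; exact mul_eq_zero_of_left rfl _)
  · exact Or.inr (Q1_out h hA)

theorem card_Q1_le : Nat.card (Q1 k) ≤ 2 ^ (k + 3) := by
  have := Nat.card_le_card_of_injective (fun a : Q1 k => (a.1.v, a.1.s)) (by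
    rintro ⟨⟨u, v, e, f, s, p⟩, rfl : e = s, rfl : f = e, h⟩
      ⟨⟨u', v', e', f', s', p'⟩, rfl : e' = s', rfl : f' = e', h'⟩ r
    simp only [Prod.mk.injEq] at r h h'
    simp [h, h', r.1, r.2])
  simpa [pow_succ] using this

theorem comm_b : x * pb k = pb k * x ↔ x ∈ kM k := by
  obtain ⟨u, v, e, f, s, p⟩ := x
  cases e <;> cases f <;> cases s <;> simp [mul_def, pb, mem_M, add_comm, m2_ne, neg_m2]

end Cfsg.Agent.P4T
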