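import Mathlib
import Cfsg.Agent.P4T.Q

/-! Computations in the model which are used in the fusion arguments. -/

set_option autoImplicit false
set_option linter.unusedSectionVars false

namespace Cfsg.Agent.P4T

open Subgroup Cfsg.Agent.Inv Cfsg.Agent.BF Cfsg.Agent.GHO PK

variable {k : ℕ} {x y w : PK k}

theorem m_mul (a : R k) : m2 k * a = 0 ∨ m2 k * a = m2 k := by
  rcases par a with ⟨b, rfl⟩ | ⟨b, rfl⟩
  exacts [Or.inl (by linear_combination b * two_m2), Or.inr (by linear_combination b * two_m2)]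

/-- the value of `x ^ m` -/
def pm (x : PK k) : PK k :=
  cond x.s (cond (xor x.e x.f) 1 ⟨q4 k * (x.u + sg x.e x.v), q4 k * (x.u + sg x.e x.v), false, false,
      false, ev_self _⟩)
    ⟨cond x.e 0 (m2 k * x.u), cond x.f 0 (m2 k * x.v), false, false, false, q4 k *
      (cond x.e 0 x.u + cond x.f 0 x.v), by
        cases x.e <;> cases x.f <;> simp [← two_q4] <;> ring⟩

theorem pow_m (hk : k ≠ 0) (x : PK k) : x ^ 2 ^ (k + 1) = pm x := by
  obtain ⟨j, rfl⟩ := Nat.exists_eq_succ_of_ne_zero hk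
  have h1 : x ^ 2 ^ (j + 1 + 1) = (x * x * (x * x)) ^ 2 ^ j := by
    rw [← sq, ← sq, ← pow_mul, ← pow_mul]; congr 1; ring
  have h2 : (2 : R (j + 1)) ^ j * 2 = q4 (j + 1) := (pow_succ _ _).symm
  have h3 := two_q4 (k := j + 1)
  have h4 := two_m2 (k := j + 1)
  rw [h1]
  obtain ⟨u, v, e, f, s, c, p⟩ := x
  cases e <;> cases f <;> cases s <;> simp [mul_def, pw_mk, pm, one_def]
  · exact ⟨by linear_combination 2 * u * h2 + u * h3, by linear_combination 2 * v * h2 + v * h3⟩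
  · exact ⟨by linear_combination (u + v) * h2, by linear_combination (u + v) * h2⟩
  · linear_combination 2 * u * h2 + u * h3
  · linear_combination 2 * v * h2 + v * h3
  · exact ⟨by linear_combination (u - v) * h2, by
      linear_combination (v - u) * h2 - 2 * q4 (j + 1) * p + (2 * v - 2 * c) * h3 + (v - c) * h4⟩

theorem q_ev {a b c : R k} (h : a + b = 2 * c) (e : Bool) :
    q4 k * (a + sg e b) = 0 ∨ q4 k * (a + sg e b) = m2 k := by
  cases e
  · rw [sg_f, h, ← mul_assoc, mul_comm _ 2, two_q4]; exact m_mul c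
  · rw [show q4 k * (a + sg true b) = m2 k * (c - b) by
      rw [sg_t]; linear_combination q4 k * h + (c - b) * two_q4]
    exact m_mul _

theorem m_ev {a b c : R k} (h : a + b = 2 * c) : m2 k * a = m2 k * b := by
  linear_combination m2 k * h + (c - b) * two_m2

theorem pm_cases (x : PK k) : pm x = 1 ∨ (pm x = pz k ∧ x ∈ kQ k ∧ (x.s = false → x ∈ kA k)) ∨
    (pm x = pb k ∧ x.e = false ∧ x.f = true ∧ x.s = false) ∨
    (pm x = pb k * pz k ∧ x.e = true ∧ x.f = false ∧ x.s = false) := by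
  rw [bz_eq]
  obtain ⟨u, v, e, f, s, c, p⟩ := x
  have h1 := m_mul u
  have h2 := m_mul v
  have h3 := m_ev p
  have h4 := q_ev p e
  cases e <;> cases f <;> cases s <;> simp [pm, one_def, pz, pb, mem_Q, mem_A] at h4 ⊢
  · rw [← h3]; simpa using h1
  · exact h4
  · exact h1
  · exact h2
  · exact h4

/-- used for: `β` is not conjugate to `z` -/
theorem g1 (hk : k ≠ 0) (c : x * y = y * x) (h1 : x ^ 2 ^ (k + 1) = y ^ 2 ^ (k + 1))
    (h2 : (x * y) ^ 2 ^ k = pz k) (h3 : x ^ 2 ^ (k + 1) ≠ 1) : x ^ 2 ^ (k + 1) = pz k := by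
  rw [pow_m hk] at h1 h3 ⊢
  rw [pow_m hk] at h1
  have n1 := b_ne (k := k)
  have n2 := b_ne_z (k := k)
  have n3 : pb k ≠ pb k * pz k := by simpa using z_ne
  have n4 : pb k * pz k ≠ pz k := by simpa using b_ne
  obtain ⟨j, rfl⟩ := Nat.exists_eq_succ_of_ne_zero hk
  rcases pm_cases x with r | r | r | r
  · exact absurd r h3
  · exact r.1
  all_goals
    exfalso
    rcases pm_cases y with t | t | t | t
    all_goals first
      | exact h3 (h1.trans t)
      | exact n2 (r.1.symm.trans (h1.trans t.1))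
      | exact n4 (r.1.symm.trans (h1.trans t.1))
      | exact n3 (r.1.symm.trans (h1.trans t.1))
      | exact n3 (t.1.symm.trans (h1.symm.trans r.1))
      | skip
    obtain ⟨u, v, e, f, s, p⟩ := x; obtain ⟨u', v', e', f', s', p'⟩ := y
    obtain ⟨-, rfl, rfl, rfl⟩ := r
    obtain ⟨-, rfl, rfl, rfl⟩ := t
    simp [mul_def, pw_mk, pz] at c h2
  · exact m2_ne (k := j + 1) (by linear_combination -h2.2 + 2 ^ j * c.2)
  · exact m2_ne (k := j + 1) (by linear_combination -h2.1 + 2 ^ j * c.1)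

theorem pow_m_E (hk : k ≠ 0) (x : PK k) : x ^ 2 ^ (k + 1) = 1 ∨ x ^ 2 ^ (k + 1) = pz k ∨
    x ^ 2 ^ (k + 1) = pb k ∨ x ^ 2 ^ (k + 1) = pb k * pz k := by
  rw [pow_m hk]
  exact (pm_cases x).imp_right (Or.imp (·.1) (Or.imp (·.1) (·.1)))

theorem two_m_mul (hk : k ≠ 0) {a : R k} (h : 2 * a = 0) : q4 k * a = 0 := by
  obtain ⟨j, rfl⟩ := Nat.exists_eq_succ_of_ne_zero hk
  show 2 ^ (j + 1) * a = 0
  linear_combination 2 ^ j * h

/-- used for the fusion of `σ` -/
theorem g2 (hk : k ≠ 0) (hy : y ∈ kM k) (y2 : y * y = 1) (y1 : y ≠ 1) (yz : y ≠ pz k)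
    (c : x * y = y * x) (h : x ^ 2 ^ (k + 1) = pz k) :
    (y = pb k ∨ y = pb k * pz k) ∧ x ∈ kA k := by
  rw [pow_m hk] at h
  rw [bz_eq]
  have n := m2_ne (k := k)
  have t := @two_m_mul k hk
  obtain ⟨u, v, e, f, s, p⟩ := x; obtain ⟨u', v', e', f', s', p'⟩ := y
  obtain rfl : s' = false := hy
  cases e <;> cases f <;> cases s <;> simp [pm, pz, one_def, n.symm] at h <;>
    cases e' <;> cases f' <;> simp [mul_def, one_def, pb, pz, mem_A, ← two_mul] at c y2 y1 yz ⊢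
  · simp only [two_eq_zero] at y2
    rcases y2 with ⟨rfl | rfl, rfl | rfl⟩ <;> simp_all
  · exact n (by linear_combination -h.2 + q4 k * c.2 - v * two_q4)
  · exact n (by linear_combination -h.1 + q4 k * c.1 - u * two_q4)
  · exact n (by linear_combination -h.1 + q4 k * c.1 - u * two_q4)
  · obtain rfl : u' = v' := by linear_combination -c.1
    rcases two_eq_zero.1 y2.1 with r | r
    exacts [y1 r r, yz r r]
  · exact n (h.symm.trans (t (by linear_combination c.1 + c.2)))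
  · obtain rfl : u' = v' := by linear_combination -c.1 - y2.2
    rcases two_eq_zero.1 y2.1 with r | r
    exacts [y1 r r, yz r r]
  · exact n (h.symm.trans (t (by linear_combination c.1 - c.2)))

theorem Q2_out_eq (h : x ∈ Q2 k) (hA : x ∉ kA k) : ∃ p, pi1 k * x = ps p := by
  obtain ⟨u, v, e, f, s, p⟩ := x
  obtain ⟨rfl, rfl, h⟩ := mem_Q2.1 h
  cases s
  · exact absurd ⟨rfl, rfl, rfl⟩ hA
  refine ⟨q4 k + u, ?_⟩
  simp [mul_def, pi1, ps] at h ⊢
  linear_combination h + two_q4 + two_m2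

/-- the element `(N / 4, 0)` -/
theorem exists_root (hk : k ≠ 0) : ∃ w : PK k, w * pt k = pt k * w ∧ w * w = pb k := by
  obtain ⟨j, rfl⟩ := Nat.exists_eq_succ_of_ne_zero hk
  exact ⟨⟨q4 _, 0, false, false, false, 2 ^ j, by rw [add_zero, q4, pow_succ']⟩,
    by simp [mul_def, pt], by simp [mul_def, pb, q4_add]⟩

theorem exists_root_i (hk : k ≠ 0) : ∃ w ∈ Q1 k, w * w = pi1 k := by
  obtain ⟨j, rfl⟩ := Nat.exists_eq_succ_of_ne_zero hk
  exact ⟨pa _ ^ 2 ^ j, pow_mem a_mem _, by rw [← pow_add, ← two_mul, ← pow_succ', a_pow']⟩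

theorem sq_Q1_A (h : x ∈ Q1 k) : x * x ∈ kA k := by
  by_cases hA : x ∈ kA k
  exacts [mul_mem hA hA, Q1_out h hA ▸ z_A]

theorem A_invol (hA : x ∈ kA k) (h : x * x = 1) :
    x = 1 ∨ x = pz k ∨ x = pb k ∨ x = pb k * pz k := by
  rw [bz_eq]
  obtain ⟨u, v, e, f, s, p⟩ := x
  obtain ⟨rfl, rfl, rfl⟩ := hA
  simp [mul_def, one_def, ← two_mul, two_eq_zero] at h
  rcases h with ⟨rfl | rfl, rfl | rfl⟩ <;> simp [one_def, pz, pb]

theorem sq_s (hq : w ∈ kQ k) (hs : w.s = true) (h : w * w * (w * w) = 1) :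
    w * w = 1 ∨ w * w = pz k := by
  obtain ⟨u, v, e, f, s, p⟩ := w
  obtain rfl : e = f := hq
  obtain rfl : s = true := hs
  cases e <;> simp [mul_def, one_def, pz, ← two_mul] at h ⊢
  · rcases two_eq_zero.1 h.1 with r | r
    exacts [Or.inl ⟨r, by linear_combination r⟩, Or.inr ⟨r, by linear_combination r⟩]
  · rcases two_eq_zero.1 h.1 with r | r
    exacts [Or.inl ⟨r, by linear_combination -r⟩, Or.inr ⟨r, by linear_combination -r - two_m2⟩]

theorem sq_M (h : w ∈ kM k) : w * w ∈ kA k := by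
  obtain ⟨u, v, e, f, s, p⟩ := w
  obtain rfl : s = false := h
  simp [mul_def, mem_A]

/-- used for: `r₂` is not fused into `Q` in `C(z)` -/
theorem t_fus (hy : y ∈ kQ k) (y2 : y * y = 1) (y1 : y ≠ 1) (yz : y ≠ pz k) (c : w * y = y * w)
    (h2 : w * w * (w * w) = 1) (h1 : w * w ≠ 1) (hz : w * w ≠ pz k) :
    y = w * w ∨ y = w * w * pz k := by
  by_cases hs : w ∈ kM k
  · have hb := ((A_invol (sq_M hs) h2).resolve_left h1).resolve_left hz
    have c2 : y * (w * w) = w * w * y := by rw [← mul_assoc, ← c, mul_assoc, ← c, mul_assoc]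
    have hM : y ∈ kM k := comm_b.1 (by
      rcases hb with r | r <;> rw [r] at c2
      · exact c2
      · rwa [← mul_assoc, mul_assoc (pb k), ← z_comm, ← mul_assoc, mul_left_inj] at c2)
    by_cases hA : y ∈ kA k
    · rcases ((A_invol hA y2).resolve_left y1).resolve_left yz with r | r <;> rcases hb with t | t <;>
        simp [r, t, mul_assoc, z_sq]
    exfalso
    obtain ⟨u, v, e, f, s, p⟩ := w; obtain ⟨u', v', e', f', s', p'⟩ := y
    obtain rfl : e' = f' := hy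
    obtain rfl : s' = false := hM
    obtain rfl : s = false := hs
    cases e' <;> cases e <;> cases f <;> simp [mul_def, one_def, mem_A] at c h1 hA
    · exact h1 (by linear_combination c.1) (by linear_combination c.2)
    · exact h1 (by linear_combination c.1)
    · exact h1 (by linear_combination c.2)
  by_cases hq : w ∈ kQ k
  · exact absurd (sq_s hq (by simpa [mem_M] using hs) h2) (by tauto)
  obtain ⟨u, v, e, f, s, p⟩ := w; obtain ⟨u', v', e', f', s', p'⟩ := y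
  obtain rfl : e' = f' := hy
  cases s <;> cases e <;> cases f <;> cases e' <;> cases s' <;>
    simp [mul_def, one_def, pz, ← two_mul, mem_M, mem_Q, neg_m2] at c y2 y1 yz hs hq ⊢
  · obtain rfl : u' = v' := by linear_combination -c.1
    rcases two_eq_zero.1 y2.1 with r | r
    exacts [y1 r r, yz r r]
  · rcases (two_eq_zero (x := u' - (u + v))).1 (by linear_combination -c.1 - c.2) with r | r
    exacts [Or.inl ⟨by linear_combination r, by linear_combination c.1 + r⟩,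
      Or.inr ⟨by linear_combination r, by linear_combination c.1 + r⟩]
  · obtain rfl : u' = v' := by linear_combination c.2
    rcases two_eq_zero.1 y2.1 with r | r
    exacts [y1 r r, yz r r]
  · rcases (two_eq_zero (x := u' - (u - v))).1 (by linear_combination c.2 - c.1) with r | r
    exacts [Or.inl ⟨by linear_combination r, by linear_combination r - c.2⟩,
      Or.inr ⟨by linear_combination r, by linear_combination r - c.2⟩]

theorem invol_Q (hy : y ∈ kQ k) (y2 : y * y = 1) (y1 : y ≠ 1) (yz : y ≠ pz k) :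
    ∃ a ∈ Q1 k, ∃ b ∈ Q2 k, y = a * b ∧ a * a = pz k ∧ b * b = pz k := by
  obtain ⟨a, ha, b, hb, rfl⟩ := dec_Q hy
  have h1 : a * a * (b * b) = 1 := by
    rw [← y2, mul_assoc, mul_assoc, ← mul_assoc b a, ← Q_comm ha hb, mul_assoc]
  have h2 : a * a ∈ Q2 k := by
    rw [eq_inv_of_mul_eq_one_left h1]; exact inv_mem (mul_mem hb hb)
  rcases Q_inf (mul_mem ha ha) h2 with r | r
  · rw [r, one_mul] at h1
    exfalso
    rcases Q1_invol ha r with rfl | rfl <;> rcases Q2_invol hb h1 with rfl | rfl <;>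
      simp [z_sq] at y1 yz
  · refine ⟨a, ha, b, hb, rfl, r, ?_⟩
    rw [r] at h1
    rw [eq_inv_of_mul_eq_one_right h1, inv_eq_of_mul_eq_one_right z_sq]

theorem comm_four (hx : x ∈ Q1 k) (hy : y ∈ Q1 k) (x2 : x * x = pz k) (y2 : y * y = pz k)
    (c : x * y = y * x) : y = x ∨ y = x⁻¹ := by
  rcases Q1_invol (mul_mem hx hy) (by
    rw [mul_assoc, ← mul_assoc y, ← c, mul_assoc, y2, ← mul_assoc, x2, z_sq]) with r | r
  · exact Or.inr (eq_inv_of_mul_eq_one_right r)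
  · exact Or.inl (mul_left_cancel (r.trans x2.symm))

theorem inv_four (x2 : x * x = pz k) : x⁻¹ = x * pz k := by
  rw [inv_eq_iff_mul_eq_one, ← mul_assoc, x2, z_sq]

theorem norm_A_Q1 (hx : x ∈ Q1 k) (hA : x ∈ kA k) (hw : w ∈ kQ k) :
    w * x * w⁻¹ = x ∨ w * x * w⁻¹ = x⁻¹ := by
  obtain ⟨a, ha, b, hb, rfl⟩ := dec_Q hw
  rw [show a * b * x * (a * b)⁻¹ = a * x * a⁻¹ by rw [mul_assoc a, ← Q_comm hx hb]; group]
  by_cases h : a ∈ kA k
  · exact Or.inl (by rw [A_comm h hA, mul_inv_cancel_right])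
  · exact Or.inr (j_inv hx hA ha h)

theorem norm_A_Q2 (hx : x ∈ Q2 k) (hA : x ∈ kA k) (hw : w ∈ kQ k) :
    w * x * w⁻¹ = x ∨ w * x * w⁻¹ = x⁻¹ := by
  have := norm_A_Q1 (sy_Q2 hx) (sy_A hA) (sy_Q hw)
  rwa [← map_inv, ← map_mul, ← map_mul, ← map_inv, sy_bij.1.eq_iff, sy_bij.1.eq_iff] at this

theorem norm_zero {x w : PK 0} (hx : x ∈ Q1 0) (x2 : x * x = pz 0) (hw : w ∈ kQ 0) :
    w * x * w⁻¹ = x ∨ w * x * w⁻¹ = x⁻¹ := by
  by_cases hA : x ∈ kA 0
  · exact norm_A_Q1 hx hA hw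
  obtain ⟨a, ha, b, hb, rfl⟩ := dec_Q hw
  rw [show a * b * x * (a * b)⁻¹ = a * x * a⁻¹ by rw [mul_assoc a, ← Q_comm hx hb]; group]
  have key : ∀ a ∈ Q1 0, a ∈ kA 0 → a * x * a⁻¹ = x ∨ a * x * a⁻¹ = x⁻¹ := fun a ha h => by
    have h1 : a * x * a⁻¹ = a * a * x := by
      calc _ = a * (x * a⁻¹ * x⁻¹) * x := by group
        _ = _ := by rw [j_inv (inv_mem ha) (inv_mem h) hx hA]; group
    rw [h1, inv_four x2]
    exact (Q1_zero ha).imp (fun r => by rw [r, one_mul]) fun r => by rw [r, z_comm]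
  by_cases h : a ∈ kA 0
  · exact key a ha h
  · have h1 : a * x⁻¹ ∈ kA 0 := by
      obtain ⟨u, v, e, f, s, p⟩ := x; obtain ⟨u', v', e', f', s', p'⟩ := a
      obtain ⟨rfl : e = s, rfl : f = e, -⟩ := hx
      obtain ⟨rfl : e' = s', rfl : f' = e', -⟩ := ha
      cases f <;> cases f' <;> simp [mem_A, mul_def, inv_def] at hA h ⊢
    simpa [mul_assoc] using key _ (mul_mem ha (inv_mem hx)) h1

/-- the reflections of the first kind -/
def Sg1 (x : PK k) : Prop := ∃ p, x = pe1 p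
/-- the reflections of the second kind -/
def Sg2 (x : PK k) : Prop := ∃ p, x = pe2 p

theorem e1_sq (p : R k) : pe1 p * pe1 p = 1 := by simp [pe1, mul_def, one_def, m2_add]
theorem e2_sq (p : R k) : pe2 p * pe2 p = 1 := by simp [pe2, mul_def, one_def, m2_add]
theorem e1_not (p : R k) : pe1 p ∉ kQ k := by simp [pe1, mem_Q]
theorem e2_not (p : R k) : pe2 p ∉ kQ k := by simp [pe2, mem_Q]
theorem e1_M (p : R k) : pe1 p ∈ kM k := rfl
theorem e2_M (p : R k) : pe2 p ∈ kM k := rfl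
theorem e1_cj (p : R k) : ∃ c ∈ kA k, c * pe1 0 * c⁻¹ = pe1 p :=
  ⟨⟨p, p, false, false, false, ev_self _⟩, ⟨rfl, rfl, rfl⟩, by simp [pe1, mul_def, inv_def, two_mul]⟩
theorem e2_cj (p : R k) : ps 0 * pe2 p * (ps 0)⁻¹ = pe1 p := by simp [pe1, pe2, ps, mul_def, inv_def]
theorem e1_b (p : R k) : pe1 p * pb k = pe1 (p + q4 k) := by
  simp [pe1, pb, mul_def, mul_add, two_q4, neg_m2]
theorem e1_e1 (p : R k) : pe1 p * pe1 (p + q4 k) = pb k := by rw [← e1_b, ← mul_assoc, e1_sq, one_mul]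
theorem e1_e1' (p : R k) : pe1 (p + q4 k) * pe1 p = pb k := by
  rw [← e1_b, comm_b.2 (e1_M p), mul_assoc, e1_sq, mul_one]
theorem e2_e2 (p : R k) : pe2 p * pe2 (p + q4 k) = pb k * pz k := by
  rw [bz_eq]; simp [pe2, mul_def, mul_add, two_q4, neg_m2, m2_add]
theorem e2_e2' (p : R k) : pe2 (p + q4 k) * pe2 p = pb k * pz k := by
  rw [bz_eq]; simp [pe2, mul_def, mul_add, two_q4, m2_add]
theorem e1_e2 (p q : R k) : pe1 p * pe2 q = pe2 q * pe1 p := by
  simp [pe1, pe2, mul_def, neg_m2, add_comm]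
theorem e1_ne (p : R k) : pe1 p ≠ pe1 (p + q4 k) := by simp [pe1, mul_add, two_q4, m2_ne]
theorem e2_ne (p : R k) : pe2 p ≠ pe2 (p + q4 k) := by simp [pe2, mul_add, two_q4, m2_ne]
theorem e1_ne_e2 (p q : R k) : pe1 p ≠ pe2 q := by simp [pe1, pe2]
theorem e1_ne_z (p : R k) : pe1 p ≠ pz k := by simp [pe1, pz]
theorem e2_ne_z (p : R k) : pe2 p ≠ pz k := by simp [pe2, pz]
theorem t_z : pt k * pz k = pe2 (q4 k) := by simp [pt, pz, pe2, mul_def, two_q4, neg_m2]

theorem e1_comm {p q : R k} (h : pe1 p * pe1 q = pe1 q * pe1 p) :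
    pe1 q = pe1 p ∨ pe1 q = pe1 (p + q4 k) := by
  simp [pe1, mul_def, mul_add, two_q4] at h ⊢
  rcases (two_eq_zero (x := 2 * q - 2 * p)).1 (by linear_combination -h) with r | r
  exacts [Or.inl (by linear_combination r), Or.inr (by linear_combination r)]

theorem e2_comm {p q : R k} (h : pe2 p * pe2 q = pe2 q * pe2 p) :
    pe2 q = pe2 p ∨ pe2 q = pe2 (p + q4 k) := by
  simp [pe2, mul_def, mul_add, two_q4] at h ⊢
  rcases (two_eq_zero (x := 2 * q - 2 * p)).1 (by linear_combination -h) with r | r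
  exacts [Or.inl (by linear_combination r), Or.inr (by linear_combination r)]

theorem invol_out (hy : y ∉ kQ k) (y2 : y * y = 1) :
    (Sg1 y ∨ Sg2 y) ∨ ∃ c, c * y * c⁻¹ = pt k := by
  obtain ⟨u, v, e, f, s, c, p⟩ := y
  cases e <;> cases f <;> cases s <;> simp [mem_Q, mul_def, one_def, ← two_mul, two_eq_zero] at hy y2
  · rcases y2 with rfl | rfl
    · refine Or.inr ⟨⟨-c, -c, false, false, false, ev_self _⟩, ?_⟩
      simp [mul_def, inv_def, pt]; linear_combination p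
    · refine Or.inl (Or.inr ⟨c - q4 k, ?_⟩)
      simp [pe2]; linear_combination p + two_q4
  · rcases y2 with rfl | rfl
    · refine Or.inr ⟨⟨-c, -c, false, false, true, ev_self _⟩, ?_⟩
      simp [mul_def, inv_def, pt]; linear_combination p
    · refine Or.inl (Or.inl ⟨c - q4 k, ?_⟩)
      simp [pe1]; linear_combination p + two_q4

theorem sg_cj (h : Sg1 y ∨ Sg2 y) : ∃ c, c * pe1 0 * c⁻¹ = y := by
  rcases h with ⟨p, rfl⟩ | ⟨p, rfl⟩
  · exact (e1_cj p).imp fun _ => And.right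
  · obtain ⟨c, -, hc⟩ := e1_cj p
    exact ⟨(ps 0)⁻¹ * c, by
      rw [← e2_cj p] at hc
      rw [show (ps 0)⁻¹ * c * pe1 0 * ((ps 0)⁻¹ * c)⁻¹ = (ps 0)⁻¹ * (c * pe1 0 * c⁻¹) * ps 0 by group, hc]
      group⟩

theorem sg_b (h : x = pz k ∨ Sg1 x ∨ Sg2 x)
    (h' : x * pb k = pz k ∨ Sg1 (x * pb k) ∨ Sg2 (x * pb k)) : Sg1 x := by
  have n := m2_ne (k := k)
  rcases h with rfl | h | ⟨p, rfl⟩
  · rcases h' with r | ⟨q, r⟩ | ⟨q, r⟩ <;> simp [pz, pb, pe1, pe2, mul_def, n] at r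
  · exact h
  · rcases h' with r | ⟨q, r⟩ | ⟨q, r⟩ <;> simp [pz, pb, pe1, pe2, mul_def, n] at r

/-- the cyclic group `⟨(2, 0)⟩` -/
def kW (k : ℕ) : Subgroup (PK k) := zpowers (pa k * pc k)

theorem mem_W : x ∈ kW k ↔ x ∈ kA k ∧ x.v = 0 := by
  rw [kW, ← mem_powers_iff_mem_zpowers]
  constructor
  · rintro ⟨n, rfl⟩; simp [pa, pc, mul_def, pw_mk, mem_A]
  · obtain ⟨u, v, e, f, s, c, p⟩ := x
    rintro ⟨⟨rfl, rfl, rfl⟩, rfl : v = 0⟩
    refine ⟨c.val, ?_⟩
    simp [pa, pc, mul_def, pw_mk]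
    linear_combination -p

theorem W_le_M : kW k ≤ kM k := fun _ h => A_le_M (mem_W.1 h).1

theorem W_invol (h : x ∈ kW k) (h2 : x * x = 1) : x = 1 ∨ x = pb k := by
  rcases A_invol (mem_W.1 h).1 h2 with r | r | r | r
  · exact Or.inl r
  · exact absurd (r ▸ (mem_W.1 h).2) m2_ne
  · exact Or.inr r
  · exact absurd ((r.trans bz_eq) ▸ (mem_W.1 h).2) m2_ne

theorem W_norm (hx : x ∈ kW k) (hw : w ∈ kM k) : w * x * w⁻¹ = x ∨ w * x * w⁻¹ = x⁻¹ := by
  obtain ⟨u, v, e, f, s, p⟩ := x; obtain ⟨u', v', e', f', s', p'⟩ := w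
  obtain ⟨⟨rfl, rfl, rfl⟩, rfl : v = 0⟩ := mem_W.1 hx
  obtain rfl : s' = false := hw
  cases e' <;> cases f' <;> simp [mul_def, inv_def]

theorem W_root (hx : x ∈ kM k) (h : x * x ∈ kW k) (h1 : x * x ≠ 1) :
    pe1 0 * x * (pe1 0)⁻¹ = x⁻¹ := by
  obtain ⟨u, v, e, f, s, p⟩ := x
  obtain rfl : s = false := hx
  have h := (mem_W.1 h).2
  cases e <;> cases f <;> simp [mul_def, inv_def, pe1, one_def, neg_m2] at h h1 ⊢
  · linear_combination h + two_m2
  · linear_combination two_m2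
  · exact absurd h h1

theorem Sg1.mul_W (h : Sg1 x) (hy : y ∈ kW k) : Sg1 (x * y) := by
  obtain ⟨p, rfl⟩ := h
  obtain ⟨u, v, e, f, s, c, h⟩ := y
  obtain ⟨⟨rfl, rfl, rfl⟩, rfl : v = 0⟩ := mem_W.1 hy
  refine ⟨p - c, ?_⟩
  simp [pe1, mul_def]
  linear_combination -h

theorem Sg1.mem_W (h : Sg1 x) (hy : Sg1 y) : x * y ∈ kW k := by
  obtain ⟨p, rfl⟩ := h; obtain ⟨q, rfl⟩ := hy
  simp [P4T.mem_W, pe1, mul_def, mem_A, m2_add]

theorem exists_e12 (hx : x ∈ Q1 k) (hA : x ∉ kA k) : ∃ p q, ∃ y ∈ Q2 k, y ∉ kA k ∧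
    x * y = pe1 p * pe2 q := by
  obtain ⟨u, v, e, f, s, h⟩ := x
  obtain ⟨rfl : e = s, rfl : f = e, h'⟩ := hx
  cases f
  · exact absurd ⟨rfl, rfl, rfl⟩ hA
  refine ⟨u + q4 k, q4 k, ⟨u + m2 k, -u, false, false, true, q4 k, by linear_combination -two_q4⟩,
    mem_Q2.2 ⟨rfl, rfl, by simp⟩, by simp [mem_A], ?_⟩
  simp [pe1, pe2, mul_def, neg_m2] at h' ⊢
  exact ⟨by linear_combination -two_q4 - two_m2, by linear_combination -h' - two_q4 - two_m2⟩

/-- the automorphism `g ↦ g z` outside `Q` -/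
def tw (k : ℕ) : PK k →* PK k := MonoidHom.mk' (fun a => cond (xor a.e a.f) (a * pz k) a) (by
  rintro ⟨u, v, e, f, s, p⟩ ⟨u', v', e', f', s', p'⟩
  cases e <;> cases f <;> cases s <;> cases e' <;> cases f' <;>
    simp [mul_def, pz, neg_m2] <;> constructor <;>
      first | ring1 | linear_combination two_m2 | linear_combination -two_m2)

theorem tw_Q (h : x ∈ kQ k) : tw k x = x := by
  obtain ⟨u, v, e, f, s, p⟩ := x
  obtain rfl : e = f := h
  simp [tw]

theorem tw_out (h : x ∉ kQ k) : tw k x = x * pz k := by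
  obtain ⟨u, v, e, f, s, p⟩ := x
  cases e <;> cases f <;> simp [tw, mem_Q] at h ⊢

theorem tw_tw (x : PK k) : tw k (tw k x) = x := by
  by_cases h : x ∈ kQ k
  · rw [tw_Q h, tw_Q h]
  · rw [tw_out h, map_mul, tw_out h, tw_Q (Q1_le_Q z_mem1), mul_assoc, z_sq, mul_one]

theorem tw_bij : Function.Bijective (tw k) := Function.Involutive.bijective tw_tw

end Cfsg.Agent.P4T
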