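import Mathlib
import Cfsg.Agent.Lyons.Tools
import Cfsg.Agent.ABG.HdGr
import Cfsg.Agent.PLocal.CommMod

/-! A signalizer functor on a frame of five commuting involutions with product 1. -/

set_option autoImplicit false
set_option linter.unusedSectionVars false

namespace Cfsg.Agent.P4T

open Subgroup Cfsg Cfsg.Agent.PLocal.Amb Cfsg.Agent.Lyons
open scoped commutatorElement

variable {G : Type*} [Group G] [Finite G] {Z : Set G} {a b c d e y z : G} {M : Subgroup G}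

/-- two distinct commuting elements of `Z` -/
structure Two (Z : Set G) (a b : G) : Prop where
  m1 : a ∈ Z
  m2 : b ∈ Z
  ne : a ≠ b
  cm : a * b = b * a

/-- the balance conditions -/
structure Bal (Z : Set G) : Prop where
  sq : ∀ a ∈ Z, a * a = 1
  ne : ∀ a ∈ Z, a ≠ 1
  h1 : ∀ a b, Two Z a b → oc 𝐳[a] ⊓ 𝐳[b] ≤ oc 𝐳[b]
  h2 : ∀ a b, Two Z a b → oc 𝐳[a * b] ⊓ 𝐳[b] ≤ oc 𝐳[b]
  h3 : ∀ a b, Two Z a b → oc 𝐳[a] ⊓ 𝐳[b] ≤ oc 𝐳[a * b]
  h4 : ∀ a b, Two Z a b → ∀ X ≤ 𝐳[a * b], Odd (Nat.card X) → a ∈ 𝐍[X] →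
    ⁅X, zpowers a⁆ ≤ oc 𝐳[a * b]
  h5 : ∀ a b c d, Two Z a b → Two Z a c → Two Z b c → Two Z a d → Two Z b d → Two Z c d →
    oc 𝐳[a * b] ⊓ 𝐳[d] ⊓ 𝐳[a * c] ≤ oc 𝐳[d]

/-- a frame -/
structure Fr (Z : Set G) (a b c d e : G) : Prop where
  ab : Two Z a b
  ac : Two Z a c
  ad : Two Z a d
  ae : Two Z a e
  bc : Two Z b c
  bd : Two Z b d
  be : Two Z b e
  cd : Two Z c d
  ce : Two Z c e
  de : Two Z d e
  pr : a * b * c * d * e = 1

/-- the closure of the functor -/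
def WW (a b c d e : G) : Subgroup G := oc 𝐳[a] ⊔ oc 𝐳[b] ⊔ oc 𝐳[c] ⊔ oc 𝐳[d] ⊔ oc 𝐳[e]

/-- the closure in terms of `z` and `y` only -/
def Wc (z y : G) : Subgroup G := oc 𝐳[z] ⊔ ⁅oc 𝐳[y], zpowers z⁆ ⊔ ⁅oc 𝐳[y * z], zpowers z⁆

theorem Two.symm (h : Two Z a b) : Two Z b a := ⟨h.m2, h.m1, h.ne.symm, h.cm.symm⟩

theorem Fr.swap (h : Fr Z a b c d e) : Fr Z b a c d e :=
  ⟨h.ab.symm, h.bc, h.bd, h.be, h.ac, h.ad, h.ae, h.cd, h.ce, h.de, by rw [← h.ab.cm, h.pr]⟩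

theorem Fr.rot (h : Fr Z a b c d e) : Fr Z b c d e a :=
  ⟨h.bc, h.bd, h.be, h.ab.symm, h.cd, h.ce, h.ac.symm, h.de, h.ad.symm, h.ae.symm, by
    rw [← mul_eq_one_comm, ← h.pr]; simp only [mul_assoc]⟩

theorem Fr.swap23 (h : Fr Z a b c d e) : Fr Z a c b d e :=
  ⟨h.ac, h.ab, h.ad, h.ae, h.bc.symm, h.cd, h.ce, h.bd, h.be, h.de, by
    rw [mul_assoc a, ← h.bc.cm, ← mul_assoc, h.pr]⟩

omit [Finite G] in
theorem WW_swap : WW b a c d e = WW a b c d e := by unfold WW; ac_rfl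
omit [Finite G] in
theorem WW_rot : WW b c d e a = WW a b c d e := by unfold WW; ac_rfl
omit [Finite G] in
theorem WW_swap23 : WW a c b d e = WW a b c d e := by unfold WW; ac_rfl

theorem WW_cj (g : G) : WW (g * a * g⁻¹) (g * b * g⁻¹) (g * c * g⁻¹) (g * d * g⁻¹) (g * e * g⁻¹) =
    cj(g, WW a b c d e) := by
  simp only [WW, centralizer_singleton_conj, oc_cj, cj_sup]

theorem z_mul {x u v : G} (h1 : x ∈ 𝐳[u]) (h2 : x ∈ 𝐳[v]) : x ∈ 𝐳[u * v] :=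
  mem_cent.2 ((mem_cent.1 h1).mul_left (mem_cent.1 h2))

theorem z_left {x u v : G} (h1 : x ∈ 𝐳[u * v]) (h2 : x ∈ 𝐳[v]) : x ∈ 𝐳[u] := by
  simpa using z_mul h1 (mem_cent.2 (mem_cent.1 h2).inv_left)

theorem z_right {x u v : G} (h1 : x ∈ 𝐳[u * v]) (h2 : x ∈ 𝐳[u]) : x ∈ 𝐳[v] := by
  simpa using z_mul (mem_cent.2 (mem_cent.1 h2).inv_left) h1

theorem z_norm (z : G) : 𝐳[z] ≤ 𝐍[zpowers z] :=
  (PLocal.Amb.centralizer_zpowers z).ge.trans (centralizer_le_normalizer' _)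

theorem norm_Wc : 𝐳[z] ⊓ 𝐳[y] ≤ 𝐍[Wc z y] :=
  le_normalizer_sup (le_normalizer_sup (inf_le_left.trans (le_norm_oc _))
    (le_normalizer_commutator (inf_le_right.trans (le_norm_oc _)) (inf_le_left.trans (z_norm z))))
    (le_normalizer_commutator (fun _ h => le_norm_oc _ (z_mul h.2 h.1)) (inf_le_left.trans (z_norm z)))

theorem norm_three : 𝐳[a] ⊓ 𝐳[e] ≤ 𝐍[oc 𝐳[a] ⊔ oc 𝐳[e] ⊔ oc 𝐳[a * e]] :=
  le_normalizer_sup (le_normalizer_sup (inf_le_left.trans (le_norm_oc _))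
    (inf_le_right.trans (le_norm_oc _))) fun _ h => le_norm_oc _ (z_mul h.1 h.2)

namespace SigA

open ABG.Hd
open PLocal.CommMod (centMod le_centMod)

variable {F : Set G} {X Y K : Subgroup G} {f g t u v x : G}

/-- the involutions in the centre of the centraliser of `F` -/
structure In (F : Set G) (x : G) : Prop where
  mem : x ∈ centralizer F
  le : centralizer F ≤ 𝐳[x]
  sq : x * x = 1

theorem In.comm (h : In F u) (h' : In F v) : Commute u v := mem_cent.1 (h.le h'.mem)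

theorem In.mul (h : In F u) (h' : In F v) : In F (u * v) :=
  ⟨mul_mem h.mem h'.mem, fun _ r => z_mul (h.le r) (h'.le r), Gr.ua_sq h.sq h'.sq (h.comm h')⟩

theorem In.nz (h : In F x) : centralizer F ≤ 𝐍[𝐳[x]] := h.le.trans le_normalizer
theorem In.no (h : In F x) : centralizer F ≤ 𝐍[oc 𝐳[x]] := h.le.trans (le_norm_oc _)
theorem In.nw (h : In F x) : centralizer F ≤ 𝐍[zpowers x] := h.le.trans (z_norm x)

theorem In.g4 (h : In F u) (h' : In F v) (hX : Odd (Nat.card X)) (hn : centralizer F ≤ 𝐍[X])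
    (h1 : X ⊓ 𝐳[u] ≤ K) (h2 : X ⊓ 𝐳[v] ≤ K) (h3 : X ⊓ 𝐳[u * v] ≤ K) : X ≤ K :=
  Gr.gen_four h.sq h'.sq (h.comm h') hX
    (sup_le (zpowers_le.2 (hn h.mem)) (zpowers_le.2 (hn h'.mem))) (by rintro _ (rfl | rfl | rfl) <;> assumption)

theorem In.dec (h : In F t) (hX : Odd (Nat.card X)) (hn : centralizer F ≤ 𝐍[X])
    (h1 : ⁅X, zpowers t⁆ ≤ K) (h2 : X ⊓ 𝐳[t] ≤ K) : X ≤ K := by
  rw [← Solv.coprime_commutator_sup_centralizer (zpowers t) X (zpowers_le.2 (hn h.mem))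
    (Gr.cop_two (isPGroup_zpowers ⟨1, by rw [pow_one, pow_two, h.sq]⟩) hX) (.inl inferInstance),
    PLocal.Amb.centralizer_zpowers]
  exact sup_le h1 h2

theorem In.cl (h : In F t) (hn : centralizer F ≤ 𝐍[X]) : ⁅X, zpowers t⁆ ≤ X :=
  Solv.commutator_le_of_le_normalizer (zpowers_le.2 (hn h.mem))

/-- a frame with its underlying set -/
structure FS (Z F : Set G) (a b c d e : G) : Prop where
  bal : Bal Z
  fr : Fr Z a b c d e
  mem : ∀ f, f ∈ F ↔ f = a ∨ f = b ∨ f = c ∨ f = d ∨ f = e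

/-- the functor -/
def th (F : Set G) (x : G) : Subgroup G := ⨆ f ∈ F, oc 𝐳[f] ⊓ 𝐳[x]

theorem le_th (hf : f ∈ F) : oc 𝐳[f] ⊓ 𝐳[x] ≤ th F x :=
  le_iSup₂ (f := fun f (_ : f ∈ F) => oc 𝐳[f] ⊓ 𝐳[x]) f hf

/-- the properties which give balance -/
def Good (F : Set G) (x : G) : Prop :=
  In F x ∧ th F x ≤ oc 𝐳[x] ∧ ∀ f ∈ F, th F x ⊓ 𝐳[f] ≤ oc 𝐳[f]

namespace FS

variable (h : FS Z F a b c d e)
include h

theorem s12 : FS Z F b a c d e := ⟨h.bal, h.fr.swap, fun f => by rw [h.mem]; tauto⟩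
theorem s23 : FS Z F a c b d e := ⟨h.bal, h.fr.swap23, fun f => by rw [h.mem]; tauto⟩
theorem rot : FS Z F b c d e a := ⟨h.bal, h.fr.rot, fun f => by rw [h.mem]; tauto⟩
theorem s34 : FS Z F a b d c e := h.rot.s23.rot.rot.rot.rot
theorem s45 : FS Z F a b c e d := h.rot.rot.s23.rot.rot.rot

theorem ma : a ∈ F := (h.mem a).2 (.inl rfl)
theorem mb : b ∈ F := h.s12.ma
theorem mc : c ∈ F := h.s23.mb
theorem md : d ∈ F := h.s34.mc
theorem me : e ∈ F := h.s45.md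

theorem ia : a ∈ Z ∧ In F a := by
  refine ⟨h.fr.ab.m1, fun f hf => ?_, fun x hx => mem_cent.2 (hx a h.ma), h.bal.sq a h.fr.ab.m1⟩
  rcases (h.mem f).1 hf with rfl | rfl | rfl | rfl | rfl
  exacts [rfl, h.fr.ab.cm.symm, h.fr.ac.cm.symm, h.fr.ad.cm.symm, h.fr.ae.cm.symm]

theorem inn (hf : f ∈ F) : f ∈ Z ∧ In F f := by
  rcases (h.mem f).1 hf with rfl | rfl | rfl | rfl | rfl
  exacts [h.ia, h.s12.ia, h.s23.s12.ia, h.s34.s23.s12.ia, h.s45.s34.s23.s12.ia]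

theorem i (hf : f ∈ F) : In F f := (h.inn hf).2
theorem iab : In F (a * b) := (h.i h.ma).mul (h.i h.mb)

theorem ze (h1 : x ∈ 𝐳[a * b]) (h2 : x ∈ 𝐳[c * d]) : x ∈ 𝐳[e] :=
  z_right (u := a * b * (c * d)) (by
    rw [← mul_assoc, h.fr.pr]; exact mem_cent.2 (Commute.one_left x)) (z_mul h1 h2)

theorem zab (h1 : x ∈ 𝐳[c]) (h2 : x ∈ 𝐳[d]) (h3 : x ∈ 𝐳[e]) : x ∈ 𝐳[a * b] :=
  z_left (z_left (z_left (by rw [h.fr.pr]; exact mem_cent.2 (Commute.one_left x)) h3) h2) h1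

theorem one (hf : f ∈ F) (hg : g ∈ F) : oc 𝐳[f] ⊓ 𝐳[g] ≤ oc 𝐳[g] := by
  rcases eq_or_ne f g with rfl | r
  exacts [inf_le_left, h.bal.h1 f g ⟨(h.inn hf).1, (h.inn hg).1, r, (h.i hf).comm (h.i hg)⟩]

theorem zero (hY : Odd (Nat.card Y)) (hn : centralizer F ≤ 𝐍[Y]) (hK : ∀ f ∈ F, Y ⊓ 𝐳[f] ≤ K) : Y ≤ K :=
  (h.i h.ma).g4 (h.i h.mb) hY hn (hK a h.ma) (hK b h.mb) <|
    (h.i h.mc).g4 (h.i h.md) (odd_of_le inf_le_left hY) (le_normalizer_inf hn h.iab.nz)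
      (fun _ r => hK c h.mc ⟨r.1.1, r.2⟩) (fun _ r => hK d h.md ⟨r.1.1, r.2⟩)
      fun _ r => hK e h.me ⟨r.1.1, h.ze r.1.2 r.2⟩

theorem two (hf : f ∈ F) : oc 𝐳[f] ⊓ 𝐳[a * b] ≤ oc 𝐳[a * b] :=
  have hn := le_normalizer_inf (h.i hf).no h.iab.nz
  have ho := odd_of_le inf_le_left (odd_oc 𝐳[f])
  (h.i h.ma).dec ho hn (h.bal.h4 a b h.fr.ab _ inf_le_right ho (hn (h.i h.ma).mem))
    fun _ r => h.bal.h3 a b h.fr.ab ⟨h.one hf h.ma ⟨r.1.1, r.2⟩, z_right r.1.2 r.2⟩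

theorem ha : oc 𝐳[a * b] ⊓ 𝐳[a] ≤ oc 𝐳[a] := h.fr.ab.cm ▸ h.bal.h2 b a h.fr.ab.symm

theorem three : ⁅oc 𝐳[a * b] ⊓ 𝐳[e], zpowers d⁆ ≤ oc 𝐳[e] := by
  have h1 : oc 𝐳[e] ≤ centMod (zpowers d) (oc 𝐳[e]) :=
    le_centMod.2 ⟨le_normalizer, (h.i h.md).cl (h.i h.me).no⟩
  refine (le_centMod.1 ((h.i h.ma).g4 (h.i h.md) (odd_of_le inf_le_left (odd_oc _))
    (le_normalizer_inf h.iab.no (h.i h.me).nz)
    (fun _ r => h1 (h.one h.ma h.me ⟨h.ha ⟨r.1.1, r.2⟩, r.1.2⟩)) (le_centMod.2 ⟨fun _ r => ?_, ?_⟩)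
    (h1.trans' (h.bal.h5 a b d e h.fr.ab h.fr.ad h.fr.bd h.fr.ae h.fr.be h.fr.de)))).2
  · exact le_norm_oc _ r.1.2
  · rw [commutator_eq_bot_iff_le_centralizer.2 (by rw [PLocal.Amb.centralizer_zpowers]; exact inf_le_right)]
    exact bot_le

theorem toB (hf : f ∈ F) (h0 : x ∈ oc 𝐳[f]) (h1 : x ∈ 𝐳[c]) (h2 : x ∈ 𝐳[d]) (h3 : x ∈ 𝐳[a * b]) :
    x ∈ oc 𝐳[c] ⊓ 𝐳[d] ⊓ 𝐳[e] := ⟨⟨h.one hf h.mc ⟨h0, h1⟩, h2⟩, h.ze h3 (z_mul h1 h2)⟩

theorem B_le : oc 𝐳[c] ⊓ 𝐳[d] ⊓ 𝐳[e] ≤ oc 𝐳[a * b] := fun _ r =>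
  h.two h.mc ⟨r.1.1, h.zab (oc_le _ r.1.1) r.1.2 r.2⟩

theorem four : ⁅oc 𝐳[a * b], zpowers c ⊔ zpowers d⁆ ⊓ 𝐳[c] ⊓ 𝐳[d] ≤ oc 𝐳[c] ⊓ 𝐳[d] ⊓ 𝐳[e] := by
  have ic := h.i h.mc
  have id := h.i h.md
  refine graded ic.sq id.sq (ic.comm id) (odd_oc _) (h.iab.no ic.mem) (h.iab.no id.mem)
    (fun _ r => ⟨⟨h.B_le r, oc_le _ r.1.1⟩, r.1.2⟩)
    (le_normalizer_inf (le_normalizer_inf (fun _ r => le_norm_oc _ r.1.2) fun _ r => le_normalizer r.2)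
      fun _ r => le_normalizer (h.ze (oc_le _ r.1.1) (z_mul r.1.2 r.2)))
    (fun x r => ?_) (fun x r => ?_) fun x r => ?_
  · have := id.cl (le_normalizer_inf h.iab.no ic.nz) r.1
    exact h.toB h.mc (h.s45.s34.s45.three r.1) this.2 r.2 (oc_le _ this.1)
  · have := ic.cl (le_normalizer_inf h.iab.no id.nz) r.1
    exact h.toB h.md (h.s45.s34.three r.1) r.2 this.2 (oc_le _ this.1)
  · have := id.cl (le_normalizer_inf h.iab.no (ic.mul id).nz) r.1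
    have h1 : oc 𝐳[a * b] ⊓ 𝐳[c * d] ≤ oc 𝐳[a * b] ⊓ 𝐳[e] := fun _ q => ⟨q.1, h.ze (oc_le _ q.1) q.2⟩
    exact h.toB h.me (h.three (commutator_mono h1 le_rfl r.1))
      (z_left this.2 r.2) r.2 (oc_le _ this.1)

theorem five : ⁅oc 𝐳[a * b], zpowers c ⊔ zpowers d⁆ ⊓ 𝐳[c] ≤ oc 𝐳[c] :=
  have ic := h.i h.mc
  have id := h.i h.md
  have hX : ⁅oc 𝐳[a * b], zpowers c ⊔ zpowers d⁆ ≤ oc 𝐳[a * b] := Solv.commutator_le_of_le_normalizer
    (sup_le (zpowers_le.2 (h.iab.no ic.mem)) (zpowers_le.2 (h.iab.no id.mem)))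
  id.dec (odd_of_le (inf_le_left.trans hX) (odd_oc _))
    (le_normalizer_inf (le_normalizer_commutator h.iab.no (le_normalizer_sup ic.nw id.nw)) ic.nz)
    ((commutator_mono (inf_le_inf_right _ hX) le_rfl).trans h.s45.s34.s45.three)
    fun _ r => (h.four r).1.1

theorem six : th F (a * b) ⊓ 𝐳[c] ≤ oc 𝐳[c] := by
  have ic := h.i h.mc
  have id := h.i h.md
  have h1 : th F (a * b) ≤ (oc 𝐳[c] ⊓ 𝐳[d] ⊓ 𝐳[e]) ⊔ ⁅oc 𝐳[a * b], zpowers c ⊔ zpowers d⁆ :=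
    iSup₂_le fun f hf =>
      have hn := le_normalizer_inf (h.i hf).no h.iab.nz
      have ho := odd_of_le inf_le_left (odd_oc 𝐳[f])
      ic.dec ho hn ((commutator_mono (h.two hf) le_sup_left).trans le_sup_right) <|
        id.dec (odd_of_le inf_le_left ho) (le_normalizer_inf hn ic.nz)
          ((commutator_mono (inf_le_left.trans (h.two hf)) le_sup_right).trans le_sup_right)
          fun _ r => mem_sup_left (h.toB hf r.1.1.1 r.1.2 r.2 r.1.1.2)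
  refine (inf_le_inf_right _ h1).trans ?_
  rw [sup_inf_of_le_normalizer (inf_le_left.trans (inf_le_left.trans (oc_le _)))
    (h.B_le.trans (Solv.le_normalizer_commutator_left _ _))]
  exact sup_le (fun _ r => r.1.1) h.five

theorem good1 (hx : x ∈ F) : Good F x :=
  have h1 : th F x ≤ oc 𝐳[x] := iSup₂_le fun _ hf => h.one hf hx
  ⟨h.i hx, h1, fun _ hf => (inf_le_inf_right _ h1).trans (h.one hx hf)⟩

theorem good2 : Good F (a * b) := by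
  have h1 : th F (a * b) ≤ oc 𝐳[a * b] := iSup₂_le fun _ hf => h.two hf
  refine ⟨h.iab, h1, fun f hf => ?_⟩
  rcases (h.mem f).1 hf with rfl | rfl | rfl | rfl | rfl
  exacts [(inf_le_inf_right _ h1).trans h.ha, (inf_le_inf_right _ h1).trans (h.bal.h2 _ _ h.fr.ab),
    h.six, h.s34.six, h.s45.s34.six]

theorem nt (hx : In F x) : centralizer F ≤ 𝐍[th F x] := le_normalizer_iff_cj.2 fun g hg => by
  simp only [th, cj_iSup]
  exact iSup₂_mono fun f hf => (cj_of_mem_normalizer (le_normalizer_inf (h.i hf).no hx.nz hg)).le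

theorem le_WW (hf : f ∈ F) : oc 𝐳[f] ≤ WW a b c d e := by
  rcases (h.mem f).1 hf with rfl | rfl | rfl | rfl | rfl
  exacts [le_sup_of_le_left (le_sup_of_le_left (le_sup_of_le_left le_sup_left)),
    le_sup_of_le_left (le_sup_of_le_left (le_sup_of_le_left le_sup_right)),
    le_sup_of_le_left (le_sup_of_le_left le_sup_right), le_sup_of_le_left le_sup_right, le_sup_right]

theorem WW_le (hK : ∀ f ∈ F, oc 𝐳[f] ≤ K) : WW a b c d e ≤ K :=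
  sup_le (sup_le (sup_le (sup_le (hK a h.ma) (hK b h.mb)) (hK c h.mc)) (hK d h.md)) (hK e h.me)

theorem comm_le (hK : ∀ f ∈ F, oc 𝐳[f] ≤ K) : ⁅oc 𝐳[a * b], zpowers e⁆ ≤ K :=
  (h.i h.mc).g4 (h.i h.md) (odd_of_le ((h.i h.me).cl h.iab.no) (odd_oc _))
    (le_normalizer_commutator h.iab.no (h.i h.me).nw)
    ((inf_le_inf_right _ (commutator_mono le_rfl le_sup_right)).trans (h.s45.five.trans (hK c h.mc)))
    ((inf_le_inf_right _ (commutator_mono le_rfl le_sup_right)).trans (h.s34.s45.five.trans (hK d h.md)))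
    fun _ r => hK e h.me (h.s45.s34.five ⟨commutator_mono le_rfl le_sup_left r.1,
      h.ze (oc_le _ ((h.i h.me).cl h.iab.no r.1)) r.2⟩)

theorem th_le (hx : Good F x) (h1 : oc 𝐳[e] ≤ K) (h2 : ⁅oc 𝐳[x], zpowers e⁆ ≤ K) : th F x ≤ K :=
  (h.i h.me).dec (odd_of_le hx.2.1 (odd_oc _)) (h.nt hx.1)
    ((commutator_mono hx.2.1 le_rfl).trans h2) ((hx.2.2 e h.me).trans h1)

theorem cde : c * d * e = a * b :=
  (inv_eq_of_mul_eq_one_right (by rw [← h.fr.pr]; simp only [mul_assoc])).symm.trans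
    (inv_eq_of_mul_eq_one_right h.iab.sq)

theorem abe : a * b * e = c * d := h.rot.rot.s34.s45.cde

theorem ne_ab : a * b ≠ 1 := fun r => h.fr.ab.ne ((inv_eq_of_mul_eq_one_right (h.i h.ma).sq).symm.trans
  (inv_eq_of_mul_eq_one_right r))

theorem mem_U (hx : x ∈ zpowers c ⊔ zpowers d ⊔ zpowers e) : x = 1 ∨ Good F x := by
  have ic := h.i h.mc
  have id := h.i h.md
  have ie := h.i h.me
  obtain ⟨u, hu, v, hv, rfl⟩ := (mem_sup_of_le_normalizer_right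
    (sup_le (zpowers_le.2 (ie.nw ic.mem)) (zpowers_le.2 (ie.nw id.mem)))).1 hx
  have h1 : v = 1 ∨ v = e := by
    have := Gr.mem_four ie.sq ie.sq (Commute.refl e) (mem_sup_left hv)
    rw [ie.sq] at this
    tauto
  rcases Gr.mem_four ic.sq id.sq (ic.comm id) hu with r | r | r | r <;> rcases h1 with r' | r' <;>
    simp only [r, r', mul_one, one_mul, true_or]
  exacts [.inr (h.good1 h.me), .inr (h.good1 h.mc), .inr h.s45.rot.rot.good2, .inr (h.good1 h.md),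
    .inr h.rot.rot.rot.good2, .inr h.rot.rot.good2, .inr (h.cde ▸ h.good2)]

theorem card_U : 2 ^ 3 ≤ Nat.card ↥(zpowers c ⊔ zpowers d ⊔ zpowers e) := by
  have h0 : IsPGroup 2 ↥(zpowers c ⊔ zpowers d ⊔ zpowers e) := isPGroup_iff.2 fun x hx => ⟨1, by
    rcases h.mem_U hx with rfl | r
    exacts [one_pow _, by rw [pow_one, pow_two, r.1.sq]]⟩
  obtain ⟨n, hn⟩ := IsPGroup.iff_card.1 h0
  have mc : c ∈ zpowers c ⊔ zpowers d ⊔ zpowers e := mem_sup_left (mem_sup_left (mem_zpowers c))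
  have md : d ∈ zpowers c ⊔ zpowers d ⊔ zpowers e := mem_sup_left (mem_sup_right (mem_zpowers d))
  have h1 := h.bal.ne c h.fr.cd.m1
  have h2 := h.bal.ne d h.fr.cd.m2
  have h3 := h.bal.ne e h.fr.ce.m2
  have h4 := h.fr.cd.ne
  have h5 := h.fr.ce.ne
  have h6 := h.fr.de.ne
  have h7 := h.rot.rot.ne_ab
  have h8 : c * d ≠ e := fun r => h.ne_ab (by rw [← h.cde, r, (h.i h.me).sq])
  have := Nat.card_le_card_of_injective (![⟨1, one_mem _⟩, ⟨c, mc⟩, ⟨d, md⟩,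
    ⟨e, mem_sup_right (mem_zpowers e)⟩, ⟨c * d, mul_mem mc md⟩] : Fin 5 → ↥(zpowers c ⊔ zpowers d ⊔ zpowers e))
    fun i j => by
      fin_cases i <;> fin_cases j <;>
        simp [h1, h2, h3, h4, h5, h6, h7, h8, h1.symm, h2.symm, h3.symm, h4.symm, h5.symm, h6.symm, h7.symm,
          h8.symm]
  rw [hn, Nat.card_fin] at this
  rw [hn]
  refine Nat.pow_le_pow_right (by norm_num) (not_lt.1 fun r => ?_)
  interval_cases n <;> omega

theorem main : Odd (Nat.card (WW a b c d e)) ∧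
    ∀ x ∈ zpowers c ⊔ zpowers d ⊔ zpowers e, x ≠ 1 → WW a b c d e ⊓ 𝐳[x] = th F x := by
  have hg : ∀ x ∈ zpowers c ⊔ zpowers d ⊔ zpowers e, x ≠ 1 → Good F x :=
    fun x hx x1 => (h.mem_U hx).resolve_left x1
  have mc : c ∈ zpowers c ⊔ zpowers d ⊔ zpowers e := mem_sup_left (mem_sup_left (mem_zpowers c))
  have md : d ∈ zpowers c ⊔ zpowers d ⊔ zpowers e := mem_sup_left (mem_sup_right (mem_zpowers d))
  have hi : ∀ x ∈ zpowers c ⊔ zpowers d ⊔ zpowers e, In F x := fun x hx => by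
    rcases h.mem_U hx with rfl | r
    exacts [⟨one_mem _, fun y _ => mem_cent.2 (Commute.one_left y), one_mul 1⟩, r.1]
  have ho := fun x hx x1 => odd_of_le (hg x hx x1).2.1 (odd_oc _)
  obtain ⟨h1, h2⟩ := S0217.result (p := 2) _ (fun x hx y hy => (hi x hx).comm (hi y hy))
    (fun x hx => by rw [pow_two, (hi x hx).sq]) h.card_U (th F)
    (fun x hx x1 => (hg x hx x1).2.1.trans (oc_le _)) (fun x hx x1 => (ho x hx x1).not_two_dvd_nat)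
    (fun x hx _ y hy _ r => conj_mem_of_mem_normalizer (h.nt (hi x hx) (hi y hy).mem) r)
    (fun x hx x1 => S0205.result (ho x hx x1)) fun x hx x1 y hy _ =>
      h.zero (odd_of_le inf_le_left (ho x hx x1)) (le_normalizer_inf (h.nt (hi x hx)) (hi y hy).nz)
        fun f hf _ r => le_th hf ⟨(hg x hx x1).2.2 f hf ⟨r.1.1, r.2⟩, r.1.2⟩
  set W := ⨆ x : {x : G // x ∈ zpowers c ⊔ zpowers d ⊔ zpowers e ∧ x ≠ 1}, th F x with hW
  have hle : ∀ x ∈ zpowers c ⊔ zpowers d ⊔ zpowers e, x ≠ 1 → th F x ≤ W := fun x hx x1 =>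
    (h2 x hx x1).ge.trans inf_le_left
  have e1 : WW a b c d e = W := le_antisymm
    (h.WW_le fun f hf => (h.i h.mc).g4 (h.i h.md) (odd_oc _) (h.i hf).no
      ((le_th hf).trans (hle c mc (h.bal.ne c h.fr.cd.m1))) ((le_th hf).trans (hle d md (h.bal.ne d h.fr.cd.m2)))
      ((le_th hf).trans (hle _ (mul_mem mc md) h.rot.rot.ne_ab)))
    (iSup_le fun _ => iSup₂_le fun f hf => inf_le_left.trans (h.le_WW hf))
  rw [e1]
  exact ⟨Nat.not_even_iff_odd.1 fun r => h1 r.two_dvd, h2⟩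

end FS

theorem fs (B : Bal Z) (h : Fr Z a b c d e) : FS Z {a, b, c, d, e} a b c d e := ⟨B, h, by simp⟩

end SigA

open SigA

theorem Fr.oc_le (B : Bal Z) (h : Fr Z a b c d e) (h1 : 𝐳[c] ≤ M) (h2 : 𝐳[d] ≤ M) (h3 : 𝐳[e] ≤ M) :
    oc 𝐳[a * b] ≤ M :=
  have h := fs B h
  (h.i h.mc).g4 (h.i h.md) (odd_oc _) h.iab.no (inf_le_right.trans h1) (inf_le_right.trans h2)
    fun _ r => h3 (h.ze (Lyons.oc_le _ r.1) r.2)

theorem Fr.main (B : Bal Z) (h : Fr Z a b c d e) :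
    Odd (Nat.card (WW a b c d e)) ∧ WW a b c d e = Wc e (a * b) := by
  have h := fs B h
  obtain ⟨h1, h2⟩ := h.main
  have mc : c ∈ zpowers c ⊔ zpowers d ⊔ zpowers e := mem_sup_left (mem_sup_left (mem_zpowers c))
  have md : d ∈ zpowers c ⊔ zpowers d ⊔ zpowers e := mem_sup_left (mem_sup_right (mem_zpowers d))
  have me : e ∈ zpowers c ⊔ zpowers d ⊔ zpowers e := mem_sup_right (mem_zpowers e)
  have hn := fun f hf => (h.i (f := f) hf).no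
  have h3 : oc 𝐳[e] ≤ Wc e (a * b) := le_sup_of_le_left le_sup_left
  refine ⟨h1, le_antisymm (h.iab.g4 (h.i h.me) h1 (le_normalizer_sup (le_normalizer_sup (le_normalizer_sup
    (le_normalizer_sup (hn a h.ma) (hn b h.mb)) (hn c h.mc)) (hn d h.md)) (hn e h.me)) ?_ ?_ ?_)
    (sup_le (sup_le (h.le_WW h.me) (h.comm_le fun _ => h.le_WW)) ?_)⟩
  · rw [h2 _ (h.cde ▸ mul_mem (mul_mem mc md) me) h.ne_ab]
    exact h.th_le h.good2 h3 (le_sup_of_le_left le_sup_right)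
  · rw [h2 e me (B.ne e h.fr.de.m2)]
    exact (h.good1 h.me).2.1.trans h3
  · rw [h.abe, h2 _ (mul_mem mc md) h.rot.rot.ne_ab]
    exact h.th_le h.rot.rot.good2 h3 (h.abe ▸ le_sup_right)
  · rw [h.abe]
    exact h.rot.rot.s34.s45.comm_le fun _ => h.le_WW

theorem Fr.special (B : Bal Z) (h : Fr Z a b c d e)
    (h6 : ∀ a b d, Two Z a b → Two Z a d → Two Z b d → oc 𝐳[a * b] ⊓ 𝐳[d] ≤ oc 𝐳[d]) :
    WW a b c d e = oc 𝐳[a] ⊔ oc 𝐳[e] ⊔ oc 𝐳[a * e] := by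
  have k := fs B h
  have k' := k.s45.s34.s23
  refine le_antisymm (k.WW_le fun f hf => (k.i k.ma).g4 (k.i k.me) (odd_oc _) (k.i hf).no
    ((k.one hf k.ma).trans (le_sup_of_le_left le_sup_left))
    ((k.one hf k.me).trans (le_sup_of_le_left le_sup_right)) ((k'.two hf).trans le_sup_right))
    (sup_le (sup_le (k.le_WW k.ma) (k.le_WW k.me)) ?_)
  exact (k.i k.mb).g4 (k.i k.mc) (odd_oc _) k'.iab.no
    ((h6 a e b h.ae h.ab h.be.symm).trans (k.le_WW k.mb)) ((h6 a e c h.ae h.ac h.ce.symm).trans (k.le_WW k.mc))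
    fun _ r => k.le_WW k.md (h6 a e d h.ae h.ad h.de.symm ⟨r.1, k'.ze (Lyons.oc_le _ r.1) r.2⟩)

end Cfsg.Agent.P4T
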