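import Mathlib
import Cfsg.Agent.A8T.Base
import Cfsg.Agent.GHE.A8
import Cfsg.Agent.Misc.AutElem
import Cfsg.Agent.Lyons.Tools
import Cfsg.Agent.Solv.Gaschutz
import Cfsg.Agent.S0088
import Cfsg.Agent.S0256

/-! Perfect groups with Sylow 2-subgroups of type `A₈` and `O₂(G) ≠ 1`. -/

set_option autoImplicit false
set_option synthInstance.maxSize 8000

namespace Cfsg.Agent.P4T

open Subgroup Cfsg Cfsg.Agent.BF

namespace SixA

open Cfsg.Agent.A8T Cfsg.Agent.SylT Cfsg.Agent.PLocal.Amb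

/-- a complement of `A` -/
def cA : Subgroup K := TG.msub 73014444049 (by decide +kernel)
/-- complements of the columns -/
def cW (j : Fin 3) : Subgroup K :=
  TG.msub (![72340172838076673, 21845, 21845] j) (by revert j; decide +kernel)
instance instDecCA (x : K) : Decidable (x ∈ cA) := TG.instDecMem _ _ x
instance instDecCW (j : Fin 3) (x : K) : Decidable (x ∈ cW j) := TG.instDecMem _ _ x

theorem cA_spec : (∀ x ∈ cA, x ∈ kA → x = 1) ∧ ∀ x : K, ∃ b ∈ cA, x * b⁻¹ ∈ kA := by decide +kernel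
theorem cW_spec : ∀ j, (∀ x ∈ cW j, x ∈ kW j → x = 1) ∧ ∀ x : K, ∃ b ∈ cW j, x * b⁻¹ ∈ kW j := by
  decide +kernel
theorem W_gen : ∀ j, ∀ y ∈ kW j, ∃ a : K, y = a * kp 1 j * a⁻¹ ∨ y = a * kp 1 j * a⁻¹ * kp 1 j := by
  decide +kernel
theorem A_gen : ∀ x ∈ kA, x ∉ kQ → ∀ y ∈ kA, ∃ a b c e : Fin 2,
    y = x ^ a.val * al 0 x ^ b.val * al 1 x ^ c.val * al 2 x ^ e.val := by decide +kernel

theorem card_GL3 : Nat.card (GL (Fin 3) (ZMod 2)) = 168 := by
  rw [Matrix.card_GL_field]; simp [Fin.prod_univ_three]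

theorem solv168 {Q : Type*} [Group Q] [Finite Q] (h : Nat.card Q ∣ 168) (h' : Nat.card Q ≠ 168) :
    Group.IsSolvable Q := by
  by_contra e
  have b := fun p q a b hp hq => mt (@Char.isSolvable_of_card_dvd_pow_mul_pow p q a b hp hq Q _ _) e
  have b1 := b 2 3 3 1 Nat.prime_two Nat.prime_three
  have b2 := b 2 7 3 1 Nat.prime_two Nat.prime_seven
  have b3 := b 3 7 1 1 Nat.prime_three Nat.prime_seven
  have b4 : Nat.card Q ≠ 42 := fun e' => by
    have := IsZGroup.of_squarefree (G := Q) (by rw [e']; decide +kernel)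
    exact e inferInstance
  have b5 : Nat.card Q ≠ 84 := fun e' => by
    have : Fact (Nat.Prime 7) := ⟨Nat.prime_seven⟩
    obtain ⟨P⟩ : Nonempty (Sylow 7 Q) := inferInstance
    have h1 : Nat.card P = 7 := by
      rw [P.card_eq_multiplicity, e', show 84 = 7 ^ 1 * 12 by norm_num,
        Nat.factorization_mul (by norm_num) (by norm_num), Nat.prime_seven.factorization_pow]
      simp [Nat.factorization_eq_zero_of_not_dvd]
    have h2 : (P : Subgroup Q).index = 12 := by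
      have := (P : Subgroup Q).index_mul_card
      rw [h1, e'] at this; omega
    have h3 := card_sylow_modEq_one 7 Q
    have h4 := h2 ▸ P.card_dvd_index
    have h5 : Nat.card (Sylow 7 Q) = 1 := by
      have := Nat.le_of_dvd (by norm_num) h4
      generalize Nat.card (Sylow 7 Q) = n at *
      interval_cases n <;> simp_all [Nat.ModEq]
    have := (Nat.card_eq_one_iff_unique.1 h5).1
    have := P.normal_of_subsingleton
    have := P.2.isNilpotent
    exact e ((Group.isSolvable_iff_subgroup_quotient (P : Subgroup Q)).2 ⟨inferInstance,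
      Char.isSolvable_of_card_dvd_pow_mul_pow (a := 2) (b := 1) Nat.prime_two Nat.prime_three _
        (by rw [← index, h2]; norm_num)⟩)
  generalize Nat.card Q = n at *
  have := Nat.le_of_dvd (by norm_num) h
  interval_cases n <;> omega

theorem five {Q : Type*} [Group Q] [Finite Q] [Group.IsPerfect Q] [Nontrivial Q]
    {f : Q →* Equiv.Perm (Fin 8)} (E : GHE.Emb f) (h2 : pCore 2 Q = ⊥) (h8 : ¬ 8 ∣ Nat.card Q) :
    Nonempty (Q ≃* alternatingGroup (Fin 5)) := by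
  rcases E.main (Group.IsPerfect.not_isSolvable Q) h2 with ⟨⟨e⟩⟩ | ⟨n, h5, h, ⟨e⟩⟩ | ⟨n, h5, h, ⟨e⟩⟩ |
    ⟨h3, ⟨⟨e⟩⟩ | ⟨⟨e⟩⟩⟩
  · obtain ⟨g, hg⟩ := Misc.AutElem.exists_bijective_PSL_two 3
    rw [Nat.card_congr e.toEquiv, ← Nat.card_eq_of_bijective g hg, card_GL3] at h8
    omega
  · rcases h5.eq_or_lt with rfl | h5
    · exact ⟨e⟩
    have : Nontrivial (Fin n) := Fin.nontrivial_iff_two_le.2 (by omega)
    rw [Nat.card_congr e.toEquiv, nat_card_alternatingGroup, Nat.card_fin] at h8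
    interval_cases n <;> simp [Nat.factorial] at h8
  · rw [Nat.card_congr e.toEquiv, Nat.card_perm, Nat.card_fin] at h8
    interval_cases n <;> simp [Nat.factorial] at h8
  · exfalso
    have : Fact (Nat.Prime 3) := ⟨Nat.prime_three⟩
    have hc : Nat.card Q = 180 := by
      rw [card_eq_card_quotient_mul_card_subgroup (pCore 3 Q), h3, Nat.card_congr e.toEquiv,
        nat_card_alternatingGroup, Nat.card_fin]
      rfl
    obtain ⟨P, hP⟩ := (Grp.pCore_isPGroup 3 Q).exists_le_sylow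
    have h1 : Nat.card P = 3 ^ 2 := by
      rw [P.card_eq_multiplicity, hc, show 180 = 3 ^ 2 * 20 by norm_num,
        Nat.factorization_mul (by norm_num) (by norm_num), Nat.prime_three.factorization_pow]
      simp [Nat.factorization_eq_zero_of_not_dvd]
    have h4 := S0088.result (P : Subgroup Q) (IsPGroup.isMulCommutative_of_card_eq_prime_sq h1)
      P.card_coprime_index
    have := isCyclic_of_prime_card h3
    have h5 : pCore 3 Q ≤ center Q := by
      let _ := (IsCyclic.mulAutMulEquiv (pCore 3 Q)).toMonoidHom.commGroupOfInjective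
        (IsCyclic.mulAutMulEquiv (pCore 3 Q)).injective
      intro x hx
      refine mem_center_iff.2 fun g => ?_
      have h1 := Abelianization.commutator_subset_ker (MulAut.conjNormal : Q →* MulAut (pCore 3 Q))
        (Group.IsPerfect.mem_commutator (g := g))
      have h7 := congrArg Subtype.val (DFunLike.congr_fun (MonoidHom.mem_ker.1 h1) ⟨x, hx⟩)
      exact mul_inv_eq_iff_eq_mul.1 h7
    have h6 : pCore 3 Q = ⊥ :=
      le_bot_iff.1 (h4 ▸ le_inf (le_inf hP fun _ _ => Group.IsPerfect.mem_commutator) h5)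
    rw [h6, card_bot] at h3
    omega
  · rw [card_eq_card_quotient_mul_card_subgroup (pCore 3 Q), h3, Nat.card_congr e.toEquiv,
      Nat.card_perm, Nat.card_fin] at h8
    simp [Nat.factorial] at h8

variable {G : Type*} [Group G] [Finite G] {ι : K →* G} {U B : Subgroup K} {V : Subgroup G}

theorem rep [V.Normal] (h : IsElementaryAbelian 2 V) {n : ℕ} (hn : Nat.card V ≤ 2 ^ n) :
    ∃ ρ : G →* GL (Fin n) (ZMod 2), ρ.ker = 𝐂[V] := by
  have : Fact (Nat.Prime 2) := ⟨Nat.prime_two⟩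
  obtain ⟨f, hf⟩ := Misc.AutElem.exists_injective_GL (V := V) (p := 2) h.1.is_comm.comm
    (fun x => Subtype.ext (h.2 x x.2)) hn
  refine ⟨f.comp MulAut.conjNormal, Subgroup.ext fun g => ?_⟩
  rw [MonoidHom.mem_ker, MonoidHom.comp_apply, map_eq_one_iff f hf, mem_centralizer_iff]
  refine ⟨fun e v hv => ?_,
    fun e => MulEquiv.ext fun v => Subtype.ext (mul_inv_eq_iff_eq_mul.2 (e v v.2).symm)⟩
  have h1 := congrArg Subtype.val (DFunLike.congr_fun e ⟨v, hv⟩)
  exact (mul_inv_eq_iff_eq_mul.1 h1).symm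

theorem top_or [Group.IsPerfect G] (ρ : G →* GL (Fin 3) (ZMod 2)) : ρ.ker = ⊤ ∨ ρ.range = ⊤ := by
  rcases subsingleton_or_nontrivial ρ.range with h | h
  · exact .inl (eq_top_iff.2 fun g _ =>
      congrArg Subtype.val (Subsingleton.elim (⟨ρ g, g, rfl⟩ : ρ.range) 1))
  · have := Group.IsPerfect.range ρ
    refine .inr (eq_top_of_card_eq _ (card_GL3 ▸ by_contra fun e => ?_))
    exact Group.IsPerfect.not_isSolvable ρ.range (solv168 (card_GL3 ▸ card_subgroup_dvd_card _) e)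

theorem odd_index (d : MS ι ⊤) : ¬ 2 ∣ ι.range.index := by
  have : Fact (Nat.Prime 2) := ⟨Nat.prime_two⟩
  simpa using d.syl.not_dvd_relIndex

theorem not_dvd (d : MS ι ⊤) (h : kA.map ι ≤ V) : ¬ 8 ∣ V.index := fun e => by
  have h1 := ι.range.index_mul_card
  have h2 : Nat.card (kA.map ι) = 16 := by rw [card_map_of_injective d.inj, card_A]
  have h3 := mul_dvd_mul e (h2 ▸ card_dvd_of_le h)
  rw [V.index_mul_card, ← h1, d.card, card_K] at h3
  exact odd_index d (Nat.dvd_of_mul_dvd_mul_right (by norm_num : 0 < 64) h3)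

theorem self_cent (d : MS ι ⊤) (hO : oddCore G = ⊥) [(U.map ι).Normal]
    (h1 : ∀ x ∈ U, ∀ y ∈ U, x * y = y * x) (h2 : ∀ x : K, (∀ y ∈ U, y * x = x * y) → x ∈ U) :
    𝐂[U.map ι] = U.map ι := by
  have : Fact (Nat.Prime 2) := ⟨Nat.prime_two⟩
  have h3 : U.map ι ≤ 𝐂[U.map ι] := by
    rintro _ ⟨x, hx, rfl⟩ _ ⟨y, hy, rfl⟩
    rw [← map_mul, ← map_mul, h1 x hx y hy]
  have h4 := d.syl.inf_of_le (N := 𝐂[U.map ι]) le_top (by rw [normalizer_eq_top])
  rw [le_antisymm (mem_of_cent d.inj h2) (le_inf (map_le_range ι U) h3)] at h4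
  refine le_antisymm (fun g hg => ?_) h3
  obtain ⟨o, ho, t, ht, rfl⟩ := Lyons.burn h4 inf_le_left hg
  have h5 : Lyons.oc 𝐂[U.map ι] ≤ oddCore G := Lyons.oc_top (G := G) ▸ Lyons.le_oc le_top
    ((normalizer_eq_top 𝐂[U.map ι]).ge.trans (Lyons.norm_le_norm_oc _)) (Lyons.odd_oc _)
  rwa [mem_bot.1 (hO.le (h5 ho)), one_mul]

theorem compl (d : MS ι ⊤) [(U.map ι).Normal] (h : IsElementaryAbelian 2 (U.map ι))
    (hB : (∀ x ∈ B, x ∈ U → x = 1) ∧ ∀ x : K, ∃ b ∈ B, x * b⁻¹ ∈ U) :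
    ∃ H : Subgroup G, IsComplement' (U.map ι) H := by
  have : Fact (Nat.Prime 2) := ⟨Nat.prime_two⟩
  have := h.1
  obtain ⟨n, hn⟩ := IsPGroup.iff_card.1 (d.pg U)
  refine Solv.gaschutz_exists _ ι.range (map_le_range ι U)
    (hn ▸ ((Nat.prime_two.coprime_iff_not_dvd).2 (odd_index d)).pow_left n) (B.map ι) ?_ ?_
  · rw [← map_inf _ _ _ d.inj, map_eq_bot_iff_of_injective _ d.inj]
    exact eq_bot_iff.2 fun x hx => hB.1 x hx.1 hx.2
  · rw [← Subgroup.map_sup, MonoidHom.range_eq_map]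
    refine congrArg _ (eq_top_iff.2 fun x _ => ?_)
    obtain ⟨b, hb, e⟩ := hB.2 x
    simpa using mul_mem_sup e hb

theorem z_mem' (hU : ∀ k, ∀ x ∈ U, k * x * k⁻¹ ∈ U) (h : U ≠ ⊥) : kz ∈ U := by
  obtain ⟨⟨k, hk⟩, h1⟩ := ne_bot_iff_exists_ne_one.1 h
  have h2 : ∀ c, ∀ x ∈ U, c * x * c⁻¹ * x⁻¹ ∈ U := fun c x hx => mul_mem (hU c x hx) (inv_mem hx)
  rcases soc k with r | r | ⟨c, r | ⟨e, r⟩⟩
  · exact absurd (Subtype.ext r) h1
  · exact r ▸ hk
  · exact r ▸ h2 c k hk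
  · exact r ▸ h2 e _ (h2 c k hk)

theorem cases (hU : ∀ k, ∀ x ∈ U, k * x * k⁻¹ ∈ U) (h1 : ∀ x ∈ U, x * x = 1)
    (h2 : ∀ x ∈ U, ∀ y ∈ U, x * y = y * x) : U ≤ kR 0 ∨ U = kA ∨ ∃ j, U = kW j := by
  by_cases hA : U ≤ kA
  · by_cases hQ : U ≤ kQ
    · exact .inl fun x hx => mem_R0 x (hA hx) (hQ hx)
    obtain ⟨x, hx, hx'⟩ := SetLike.not_le_iff_exists.1 hQ
    refine .inr (.inl (le_antisymm hA fun y hy => ?_))
    obtain ⟨a, b, c, e, rfl⟩ := A_gen x (hA hx) hx' y hy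
    exact mul_mem (mul_mem (mul_mem (pow_mem hx _) (pow_mem (hU _ x hx) _)) (pow_mem (hU _ x hx) _))
      (pow_mem (hU _ x hx) _)
  · obtain ⟨x, hx, hx'⟩ := SetLike.not_le_iff_exists.1 hA
    obtain ⟨j, -, k, e⟩ := (invol_A x (h1 x hx)).resolve_left hx'
    have h3 : kp 1 j ∈ U := e ▸ hU k x hx
    have h4 : kW j ≤ U := fun y hy => by
      obtain ⟨a, rfl | rfl⟩ := W_gen j y hy
      exacts [hU a _ h3, mul_mem (hU a _ h3) h3]
    exact .inr (.inr ⟨j, le_antisymm (fun y hy => cent_W j y fun w hw => h2 w (h4 hw) y hy) h4⟩)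

theorem exists_V (d : MS ι ⊤) (h2 : pCore 2 G ≠ ⊥) : ∃ U : Subgroup K, (U.map ι).Normal ∧ kz ∈ U ∧
    IsElementaryAbelian 2 (U.map ι) ∧ U.map ι ≤ pCore 2 G ∧ pCore 2 G ≤ 𝐂[U.map ι] := by
  have : Fact (Nat.Prime 2) := ⟨Nat.prime_two⟩
  have hS : pCore 2 G ≤ ι.range := pCoreOf_top (G := G) 2 ▸ d.syl.pCoreOf_le
  have hz : ι kz ∈ pCore 2 G := z_mem' (U := (pCore 2 G).comap ι)
    (fun k x hx => by
      rw [mem_comap, map_mul, map_mul, map_inv]; exact (pCore_normal 2 G).conj_mem _ hx _)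
    fun e => h2 (by rw [← map_comap_eq_self hS, e, Subgroup.map_bot])
  have h3 : normalClosure {ι kz} ≤ pCore 2 G := normalClosure_le_normal (by simpa using hz)
  have h4 : normalClosure {ι kz} ≤ 𝐂[pCore 2 G] := normalClosure_le_normal (by
    rintro _ rfl g hg
    obtain ⟨k, rfl⟩ := hS hg
    rw [← map_mul, ← map_mul, z_comm])
  have h5 : ∀ a ∈ normalClosure {ι kz}, ∀ b ∈ normalClosure {ι kz}, a * b = b * a :=
    fun a ha b hb => h4 hb a (h3 ha)
  refine ⟨(normalClosure {ι kz}).comap ι, ?_⟩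
  rw [map_comap_eq_self (h3.trans hS)]
  refine ⟨inferInstance, subset_normalClosure rfl, ⟨⟨⟨fun a b => Subtype.ext (h5 a a.2 b b.2)⟩⟩,
    fun a ha => ?_⟩, h3, le_centralizer_iff.1 h4⟩
  induction ha using closure_induction with
  | mem x hx =>
    obtain ⟨_, rfl, hx⟩ := Group.mem_conjugatesOfSet_iff.1 hx
    obtain ⟨c, rfl⟩ := isConj_iff.1 hx
    rw [conj_pow, sq, ← map_mul, z_sq]; simp
  | one => simp
  | mul x y hx hy h h' => rw [Commute.mul_pow (h5 x hx y hy), h, h', one_mul]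
  | inv x _ h => rw [inv_pow, h, inv_one]

end SixA

open SixA Cfsg.Agent.A8T Cfsg.Agent.PLocal.Amb in
/-- The normal closure `V` of the central involution is one of the normal elementary abelian subgroups of
the model; it is self-centralising and splits by Gaschuetz' theorem. -/
theorem six {G : Type*} [Group G] [Finite G] {ι : A8T.K →* G} (d : MS ι ⊤)
    (hP : commutator G = ⊤) (hO : oddCore G = ⊥) (hZ : center G = ⊥) (h2 : pCore 2 G ≠ ⊥) :
    (∃ E K : Subgroup G, E.Normal ∧ IsElementaryAbelian 2 E ∧ Nat.card ↥E = 16 ∧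
        Nonempty (↥K ≃* ↥(alternatingGroup (Fin 5))) ∧ Subgroup.IsComplement' E K ∧
        ¬ (K ≤ Subgroup.centralizer (E : Set G)) ∧
        ∃ e₁ ∈ E, ∃ e₂ ∈ E, e₁ ≠ 1 ∧ e₂ ≠ 1 ∧ ∀ k ∈ K, k * e₁ * k⁻¹ ≠ e₂) ∨
    (∃ E K : Subgroup G, E.Normal ∧ IsElementaryAbelian 2 E ∧ Nat.card ↥E = 8 ∧
        Nonempty (↥K ≃* GL (Fin 3) (ZMod 2)) ∧ Subgroup.IsComplement' E K ∧
        K ⊓ Subgroup.centralizer (E : Set G) = ⊥) := by
  have : Group.IsPerfect G := Group.isPerfect_def.2 hP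
  obtain ⟨U, hn, hz, hE, h3, h4⟩ := exists_V d h2
  have hC : 𝐂[U.map ι] ≠ ⊤ := fun e => z_ne (d.inj (by
    rw [map_one, ← mem_bot, ← hZ]
    exact mem_center_iff.2 fun g => (e.ge (mem_top g) _ (mem_map_of_mem ι hz)).symm))
  rcases cases (U := U) (fun k x hx => (mem_map_iff_mem d.inj).1 (by
      rw [map_mul, map_mul, map_inv]; exact hn.conj_mem _ (mem_map_of_mem ι hx) _))
    (fun x hx => d.inj (by rw [map_mul, map_one, ← sq]; exact hE.2 _ (mem_map_of_mem ι hx)))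
    (fun x hx y hy => d.inj (by
      rw [map_mul, map_mul]; exact h4 (h3 (mem_map_of_mem ι hy)) _ (mem_map_of_mem ι hx)))
    with h | rfl | ⟨j, rfl⟩
  · obtain ⟨ρ, hρ⟩ := rep hE (n := 3) (by
      rw [card_map_of_injective d.inj]; exact (card_le_of_le h).trans (card_R 0).le)
    refine absurd ?_ (not_dvd d ((A_le_C ι).trans (centralizer_le (map_mono (h.trans R_le_A)))))
    rw [← hρ, index_ker, (top_or ρ).resolve_left (hρ ▸ hC), card_top, card_GL3]
    norm_num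
  · have hc : Nat.card (kA.map ι) = 16 := by rw [card_map_of_injective d.inj, card_A]
    have h5 := self_cent d hO A_comm cent_A
    have h6 : pCore 2 G = kA.map ι := le_antisymm (h4.trans h5.le) h3
    obtain ⟨H, hH⟩ := compl d hE cA_spec
    obtain ⟨ρ, hρ⟩ := rep hE (n := 4) hc.le
    obtain ⟨g, hg⟩ := Misc.AutElem.exists_bijective_PSL_two 4
    obtain ⟨e⟩ := S0256.result (F := ZMod 2) (ZMod.card 2)
    have hi : Function.Injective (QuotientGroup.lift (pCore 2 G) ρ (h6.trans (hρ.trans h5).symm).le) :=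
      (QuotientGroup.injective_lift_iff _ _ _).2 (h6.trans (hρ.trans h5).symm)
    have : Nontrivial (G ⧸ pCore 2 G) := QuotientGroup.nontrivial_iff.2 (by rwa [h6, ← h5])
    obtain ⟨e5⟩ := five (Q := G ⧸ pCore 2 G) (f := (alternatingGroup (Fin 8)).subtype.comp
      (e.toMonoidHom.comp (g.comp (QuotientGroup.lift _ ρ _))))
      ⟨Subtype.val_injective.comp (e.injective.comp (hg.1.comp hi)), fun q => (e _).2⟩
      (Grp.pCore_quotient_pCore 2 G) (not_dvd d h6.ge)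
    have e6 := hH.symm.QuotientMulEquiv.symm.trans ((QuotientGroup.quotientMulEquivOfEq h6.symm).trans e5)
    obtain ⟨j, hj⟩ := not_forall.1 (not_three d)
    refine .inl ⟨_, H, hn, hE, hc, ⟨e6⟩, hH, fun h => ?_, _, mem_map_of_mem ι (d_mem j).1, _,
      mem_map_of_mem ι hz, (map_ne_one_iff ι d.inj).2 (d_mem j).2.2.1, (map_ne_one_iff ι d.inj).2 z_ne,
      fun k _ e => hj ⟨k, e⟩⟩
    have h7 := Nat.card_congr e6.toEquiv
    rw [hH.disjoint.symm.eq_bot_of_le (h.trans h5.le), card_bot, nat_card_alternatingGroup] at h7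
    simp [Nat.factorial] at h7
  · have hc : Nat.card ((kW j).map ι) = 8 := by rw [card_map_of_injective d.inj, card_W]
    have h5 := self_cent d hO (W_comm j) (cent_W j)
    obtain ⟨H, hH⟩ := compl d hE (cW_spec j)
    obtain ⟨ρ, hρ⟩ := rep hE (n := 3) hc.le
    refine .inr ⟨_, H, hn, hE, hc, ⟨hH.symm.QuotientMulEquiv.symm.trans
      ((QuotientGroup.quotientMulEquivOfEq (hρ.trans h5).symm).trans
        (QuotientGroup.quotientKerEquivOfSurjective ρ (MonoidHom.range_eq_top.1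
          ((top_or ρ).resolve_left (hρ ▸ hC)))))⟩, hH, ?_⟩
    rw [h5]
    exact hH.disjoint.symm.eq_bot

end Cfsg.Agent.P4T
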